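import Groth.Agent.WQ7.Basic
import Groth.Agent.FlatLoc6.SerreNormal
import Mathlib.RingTheory.Ideal.GoingUp

/-!
Finite group actions: residual action on invariants of a normal subgroup, the Galois criterion as a
span of orbit functions, normal domains as intersections of height one localizations.
-/

namespace Groth.Agent.WQ7

universe u v w

open scoped Pointwise

section Residual

variable {R : Type u} [CommRing R] {A : Type v} [CommRing A] [Algebra R A]
  {H : Type w} [Group H] [Finite H] [MulSemiringAction H A]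

/-- An element acting trivially modulo `P` on the invariants of a normal subgroup `N` lies in
`I_P · N`. -/
theorem mem_inertia_sup (N : Subgroup H) [N.Normal] (P : Ideal A) [P.IsPrime] (h : H)
    (htriv : ∀ x : A, (∀ g ∈ N, g • x = x) → h • x - x ∈ P) : h ∈ P.inertia H ⊔ N := by
  let F := FixedPoints.subring A N
  have : SMulCommClass N F A := ⟨fun g f a => by
    show (g : H) • ((f : A) * a) = (f : A) * ((g : H) • a)
    rw [smul_mul', show (g : H) • (f : A) = f from f.2 g]⟩
  have : Algebra.IsInvariant F A N := ⟨fun a ha => ⟨⟨a, ha⟩, rfl⟩⟩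
  have hstab : ∀ (t : H) (x : A), (∀ g ∈ N, g • x = x) → ∀ g ∈ N, g • (t • x) = t • x :=
    fun t x hx g hg => by
      have := hx (t⁻¹ * g * t) (by simpa using (‹N.Normal›.conj_mem g hg t⁻¹))
      calc g • (t • x) = t • ((t⁻¹ * g * t) • x) := by simp [← mul_smul, mul_assoc]
        _ = t • x := by rw [this]
  have hunder : P.under F = (h • P).under F := by
    ext ⟨x, hx⟩
    have hx' : ∀ g ∈ N, g • x = x := fun g hg => hx ⟨g, hg⟩
    have h2 := htriv (h⁻¹ • x) (hstab h⁻¹ x hx')
    rw [smul_inv_smul] at h2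
    show x ∈ P ↔ x ∈ h • P
    rw [Ideal.mem_pointwise_smul_iff_inv_smul_mem]
    exact ⟨fun hm => by simpa using sub_mem hm h2, fun hm => by simpa using add_mem h2 hm⟩
  obtain ⟨g, hg⟩ := Algebra.IsInvariant.exists_smul_of_under_eq F A N (h • P) P hunder.symm
  let h' : H := (g : H) * h
  have hP : h' • P = P := by
    rw [show h' = (g : H) * h from rfl, mul_smul]
    exact hg.symm
  have htriv' : ∀ x : A, (∀ g ∈ N, g • x = x) → h' • x - x ∈ P := fun x hx => by
    rw [show h' • x = h • x by
      show ((g : H) * h) • x = h • x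
      rw [mul_smul]; exact hstab h x hx g g.2]
    exact htriv x hx
  let σ : (A ⧸ P) ≃ₐ[F ⧸ P.under F] (A ⧸ P) :=
    AlgEquiv.ofRingEquiv
      (f := Ideal.quotientEquiv P P (MulSemiringAction.toRingEquiv H A h') (
        hP.symm.trans rfl)) fun x => by
      obtain ⟨x, rfl⟩ := Ideal.Quotient.mk_surjective x
      show Ideal.Quotient.mk P (h' • (x : A)) = Ideal.Quotient.mk P (x : A)
      exact Ideal.Quotient.eq.mpr (htriv' x fun g hg => x.2 ⟨g, hg⟩)
  obtain ⟨t, ht⟩ := Ideal.Quotient.stabilizerHom_surjective N (P.under F) P σ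
  have hI : (t : H)⁻¹ * h' ∈ P.inertia H := fun a => by
    have h2 : ((t : N) : H) • a - h' • a ∈ P :=
      Ideal.Quotient.eq.mp (DFunLike.congr_fun ht (Ideal.Quotient.mk P a))
    have ht' : (((t : N) : H))⁻¹ • P = P :=
      inv_smul_eq_iff.mpr (show P = ((t : N) : H) • P from t.2.symm)
    have h3 := Ideal.smul_mem_pointwise_smul ((t : N) : H)⁻¹ _ _ h2
    rw [ht', smul_sub, inv_smul_smul, ← mul_smul] at h3
    simpa using neg_mem h3
  have : h = ((g : H)⁻¹ * ((t : N) : H)) * (((t : N) : H)⁻¹ * h') := by simp [h']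
  rw [this]
  exact mul_mem (Subgroup.mem_sup_right (mul_mem (inv_mem g.2) (t : N).2)) (Subgroup.mem_sup_left hI)

end Residual

section Orbit

variable {R : Type u} [CommRing R] {A : Type v} [CommRing A] [Algebra R A]
  {H : Type w} [Group H] [MulSemiringAction H A]

/-- The functions `H → A` which are `A`-combinations of orbit maps of elements of `S`. -/
def orbitSpan (S : Subalgebra R A) : Submodule A (H → A) :=
  Submodule.span A (Set.range fun y : S => fun g : H => g • (y : A))

variable (S : Subalgebra R A)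

theorem one_mem_orbitSpan : (1 : H → A) ∈ orbitSpan S :=
  Submodule.subset_span ⟨1, funext fun g => by simp⟩

theorem mul_mem_orbitSpan {f f' : H → A} (hf : f ∈ orbitSpan S) (hf' : f' ∈ orbitSpan S) :
    f * f' ∈ orbitSpan S := by
  have := Submodule.mul_mem_mul hf hf'
  rw [orbitSpan, Submodule.span_mul_span] at this
  refine Submodule.span_mono ?_ this
  rintro _ ⟨_, ⟨a, rfl⟩, _, ⟨b, rfl⟩, rfl⟩
  exact ⟨a * b, funext fun g => smul_mul' g (a : A) b⟩

/-- Galois criterion: if the delta function times `r` is a combination of orbit maps of `S`, then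
`r` carries `A` into `S`, provided `S` contains the invariants of `N`. -/
theorem mul_mem_of_delta [Finite H] (N : Subgroup H) (hfix : ∀ a : A, (∀ g ∈ N, g • a = a) → a ∈ S)
    (r : A) {f : H → A} (hf : f ∈ orbitSpan S) (h1 : f 1 = r)
    (h0 : ∀ g ∈ N, g ≠ 1 → f g = 0) (a : A) : r * a ∈ S := by
  classical
  let := Fintype.ofFinite N
  let Φ : (H → A) → A := fun f => ∑ g : N, ((g : H) • a) * ((g : H) • f (g : H)⁻¹)
  have hΦ : ∀ f ∈ orbitSpan S, ∀ x : A, Φ (x • f) ∈ S := by
    intro f hf
    induction hf using Submodule.span_induction with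
    | mem f hf =>
      obtain ⟨y, rfl⟩ := hf
      intro x
      have : Φ (x • fun g : H => g • (y : A)) = (∑ g : N, (g : H) • (a * x)) * y := by
        rw [Finset.sum_mul]
        refine Finset.sum_congr rfl fun g _ => ?_
        simp [smul_mul', mul_assoc]
      rw [this]
      refine mul_mem (hfix _ fun g hg => ?_) y.2
      rw [Finset.smul_sum]
      exact Fintype.sum_equiv (Equiv.mulLeft (⟨g, hg⟩ : N)) _ _ fun t => (mul_smul g (t : H) _).symm
    | zero => intro x; simp [Φ]
    | add f f' _ _ h h' =>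
      intro x
      have : Φ (x • (f + f')) = Φ (x • f) + Φ (x • f') := by
        simp only [Φ, smul_add, Pi.add_apply, mul_add, Finset.sum_add_distrib]
      rw [this]; exact add_mem (h x) (h' x)
    | smul y f _ h => intro x; rw [smul_smul]; exact h (x * y)
  have := hΦ f hf 1
  rw [one_smul] at this
  have e : Φ f = r * a := by
    show ∑ g : N, _ = _
    rw [Finset.sum_eq_single (1 : N) (fun g _ hg => by
      rw [h0 _ (inv_mem g.2) (fun h => hg (Subtype.ext (inv_eq_one.mp h))), smul_zero, mul_zero])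
      (fun h => absurd (Finset.mem_univ _) h)]
    simp [h1, mul_comm]
  rwa [e] at this

/-- The separating function for one element `h`. -/
theorem exists_separating (h : H) (T : Set A) (hT : T ⊆ S) (r : A)
    (hr : r ∈ Ideal.span ((fun y => y - h • y) '' T)) :
    ∃ f ∈ orbitSpan (H := H) S, f 1 = r ∧ f h = 0 := by
  induction hr using Submodule.span_induction with
  | mem z hz =>
    obtain ⟨y, hy, rfl⟩ := hz
    refine ⟨(fun g : H => g • (y : A)) - (h • y) • (1 : H → A),
      sub_mem (Submodule.subset_span ⟨⟨y, hT hy⟩, rfl⟩) (Submodule.smul_mem _ _ (one_mem_orbitSpan S)),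
      by simp, by simp⟩
  | zero => exact ⟨0, zero_mem _, rfl, rfl⟩
  | add x y _ _ hx hy =>
    obtain ⟨f, hf, hf1, hfh⟩ := hx; obtain ⟨f', hf', hf1', hfh'⟩ := hy
    exact ⟨f + f', add_mem hf hf', by simp [hf1, hf1'], by simp [hfh, hfh']⟩
  | smul c x _ hx =>
    obtain ⟨f, hf, hf1, hfh⟩ := hx
    exact ⟨c • f, Submodule.smul_mem _ c hf, by simp [hf1], by simp [hfh]⟩

end Orbit

/-- In a Noetherian normal domain, divisibility can be tested at the primes of height at most one. -/
theorem dvd_of_height_le_one {R : Type u} [CommRing R] [IsNoetherianRing R] [IsDomain R]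
    [IsIntegrallyClosed R] {a b : R} (hb : b ≠ 0)
    (h : ∀ q : Ideal R, q.IsPrime → q.height ≤ 1 → ∃ r ∉ q, b ∣ r * a) : b ∣ a := by
  by_contra hab
  let M := QuotSMulTop b R
  have hmem : ∀ x : R, (Submodule.Quotient.mk x : M) = 0 ↔ b ∣ x := fun x => by
    show (Submodule.Quotient.mk x : R ⧸ (b • ⊤ : Submodule R R)) = 0 ↔ _
    rw [Submodule.Quotient.mk_eq_zero, Submodule.mem_smul_pointwise_iff_exists]
    exact ⟨fun ⟨y, _, hy⟩ => ⟨y, hy.symm⟩, fun ⟨y, hy⟩ => ⟨y, Submodule.mem_top, hy.symm⟩⟩
  let z : M := Submodule.Quotient.mk a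
  have hz : z ≠ 0 := fun e => hab ((hmem a).mp e)
  obtain ⟨q, hq, hle⟩ := exists_le_isAssociatedPrime_of_isNoetherianRing R z hz
  have := hq.isPrime
  have hann : ∀ r : R, b ∣ r * a → r ∈ q := fun r hr => hle (by
    refine Submodule.mem_colon_singleton.mpr ((Submodule.mem_bot R).mpr ?_)
    show r • (Submodule.Quotient.mk a : M) = 0
    rw [← Submodule.Quotient.mk_smul]; exact (hmem _).mpr hr)
  have hS : LocCoh.HasSk 2 R R := (FlatLoc6.R1_S2_of_normal fun p _ =>
    ⟨IsLocalization.isDomain_localization p.primeCompl_le_nonZeroDivisors,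
      isIntegrallyClosed_of_isLocalization (Localization.AtPrime p) p.primeCompl
        p.primeCompl_le_nonZeroDivisors⟩).2
  have hreg : IsSMulRegular R b := fun x y e => mul_left_cancel₀ hb e
  obtain ⟨r, hr, hd⟩ := h q inferInstance
    (FlatLoc6.height_le_one_of_mem_ass_quot hS hreg (hann b (dvd_mul_right b a)) hq)
  exact hr (hann r hd)

end Groth.Agent.WQ7
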