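import Groth.Agent.PSLib.Regular
import Groth.Agent.AdicLib.Basic
import Groth.Agent.EGA41Lib.IntDim
import Mathlib.RingTheory.Invariant.Basic
import Mathlib.RingTheory.LocalRing.ResidueField.Defs
import Mathlib.RingTheory.Ideal.GoingUp

/-!
Invariants of a finite group acting on a complete Noetherian local ring with coefficient field.
-/

namespace Groth.Agent.WQ7

universe u v w

open IsLocalRing

variable {A : Type u} [CommRing A] [IsLocalRing A]
  {k : Type v} [Field k] [Algebra k A]
  {G : Type w} [Group G] [Finite G] [MulSemiringAction G A]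

omit [Finite G] in
theorem smul_sub_self_mem (hk : Function.Surjective (residue A ∘ algebraMap k A))
    (hGk : ∀ (σ : G) (c : k), σ • algebraMap k A c = algebraMap k A c) (σ : G) (a : A) :
    σ • a - a ∈ maximalIdeal A := by
  have hm : ∀ x ∈ maximalIdeal A, σ • x ∈ maximalIdeal A := fun x hx hu => by
    have := hu.map (MulSemiringAction.toRingHom G A σ⁻¹)
    rw [MulSemiringAction.toRingHom_apply, inv_smul_smul] at this
    exact hx this
  obtain ⟨c, hc⟩ := hk (residue A a)
  have hd : a - algebraMap k A c ∈ maximalIdeal A :=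
    residue_eq_zero_iff _ |>.mp (by rw [map_sub]; exact sub_eq_zero.mpr hc.symm)
  have := sub_mem (hm _ hd) hd
  simpa [smul_sub, hGk] using this

variable [IsNoetherianRing A]

/-- An ideal of definition generated by finitely many invariant elements. -/
theorem exists_fixed_span : ∃ (l : ℕ) (s : Fin l → A), (∀ i, s i ∈ maximalIdeal A) ∧
    (∀ (σ : G) i, σ • s i = s i) ∧ ∃ e : ℕ, maximalIdeal A ^ e ≤ Ideal.span (Set.range s) := by
  classical
  let := Fintype.ofFinite G
  let T : Set A := {x | x ∈ maximalIdeal A ∧ ∀ σ : G, σ • x = x}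
  obtain ⟨t, htT, ht⟩ := Submodule.fg_span_iff_fg_span_finset_subset T |>.mp
    (IsNoetherian.noetherian (Submodule.span A T))
  have hrad : maximalIdeal A ≤ (Ideal.span T).radical := by
    intro x hx
    have hmem : ∀ σ : G, σ • x ∈ maximalIdeal A := fun σ hu => by
      have := hu.map (MulSemiringAction.toRingHom G A σ⁻¹)
      rw [MulSemiringAction.toRingHom_apply, inv_smul_smul] at this
      exact hx this
    have hzero := MulSemiringAction.eval_charpoly G x
    have hmon := MulSemiringAction.monic_charpoly G x
    set f := MulSemiringAction.charpoly G x with hf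
    have hco : ∀ i < f.natDegree, f.coeff i ∈ Ideal.span T := fun i hi => by
      refine Ideal.subset_span ⟨?_, fun σ => MulSemiringAction.smul_coeff_charpoly x i σ⟩
      have hmap : f.map (residue A) = Polynomial.X ^ Fintype.card G := by
        rw [hf, MulSemiringAction.charpoly_eq, Polynomial.map_prod]
        simp [residue_eq_zero_iff _ |>.mpr (hmem _)]
      have hdeg : f.natDegree = Fintype.card G := by
        have := hmon.natDegree_map (residue A)
        rw [hmap, Polynomial.natDegree_X_pow] at this
        exact this.symm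
      have := congrArg (fun q => q.coeff i) hmap
      simp only [Polynomial.coeff_map, Polynomial.coeff_X_pow, if_neg (hdeg ▸ hi.ne)] at this
      exact (residue_eq_zero_iff _).mp this
    rw [Polynomial.eval_eq_sum_range, Finset.sum_range_succ, hmon.coeff_natDegree, one_mul] at hzero
    exact ⟨f.natDegree, by
      rw [eq_neg_of_add_eq_zero_right hzero]
      exact neg_mem (sum_mem fun i hi => Ideal.mul_mem_right _ _ (hco i (Finset.mem_range.mp hi)))⟩
  obtain ⟨e, he⟩ := Ideal.exists_pow_le_of_le_radical_of_fg_radical hrad (IsNoetherian.noetherian _)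
  refine ⟨_, fun i => (t.equivFin.symm i : A), fun i => (htT (t.equivFin.symm i).2).1,
    fun σ i => (htT (t.equivFin.symm i).2).2 σ, e, he.trans ?_⟩
  rw [show Set.range (fun i => (t.equivFin.symm i : A)) = (t : Set A) by
    ext z; exact ⟨fun ⟨i, hi⟩ => hi ▸ (t.equivFin.symm i).2,
      fun hz => ⟨t.equivFin ⟨z, hz⟩, by simp⟩⟩]
  exact ht.le

omit [IsNoetherianRing A] in
theorem exists_fg_sup_pow [IsNoetherianRing A] (hk : Function.Surjective (residue A ∘ algebraMap k A))
    (N : ℕ) : ∃ V : Finset A, ∀ a : A, ∃ v ∈ Submodule.span k (V : Set A),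
      a - v ∈ maximalIdeal A ^ N := by
  classical
  induction N with
  | zero => exact ⟨∅, fun a => ⟨0, zero_mem _, by simp⟩⟩
  | succ N ih =>
    obtain ⟨V, hV⟩ := ih
    obtain ⟨t, ht⟩ := IsNoetherian.noetherian (maximalIdeal A ^ N)
    refine ⟨V ∪ t, fun a => ?_⟩
    obtain ⟨v, hv, hav⟩ := hV a
    have key : ∀ z ∈ Submodule.span A (t : Set A), ∀ x : A, ∃ w ∈ Submodule.span k (t : Set A),
        x * z - w ∈ maximalIdeal A ^ (N + 1) := by
      intro z hz
      induction hz using Submodule.span_induction with
      | mem z hz =>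
        intro x
        obtain ⟨c, hc⟩ := hk (residue A x)
        refine ⟨c • z, Submodule.smul_mem _ _ (Submodule.subset_span hz), ?_⟩
        rw [Algebra.smul_def, ← sub_mul, pow_succ']
        exact Ideal.mul_mem_mul (residue_eq_zero_iff _ |>.mp
          (by rw [map_sub]; exact sub_eq_zero.mpr hc.symm)) (ht ▸ Submodule.subset_span hz)
      | zero => exact fun x => ⟨0, zero_mem _, by simp⟩
      | add p q _ _ hp hq =>
        intro x
        obtain ⟨w, hw, h⟩ := hp x; obtain ⟨w', hw', h'⟩ := hq x
        refine ⟨w + w', add_mem hw hw', ?_⟩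
        rw [mul_add, add_sub_add_comm]; exact add_mem h h'
      | smul y p _ hp =>
        intro x
        obtain ⟨w, hw, h⟩ := hp (x * y)
        exact ⟨w, hw, by rwa [smul_eq_mul, ← mul_assoc]⟩
    obtain ⟨w, hw, haw⟩ := key _ (ht.symm ▸ hav) 1
    refine ⟨v + w, add_mem (Submodule.span_mono (by simp) hv) (Submodule.span_mono (by simp) hw), ?_⟩
    rwa [one_mul, ← sub_add_eq_sub_sub] at haw

variable [IsAdicComplete (maximalIdeal A) A]

/-- A finite map from a power series ring with invariant image. -/
theorem exists_powerSeries (hk : Function.Surjective (residue A ∘ algebraMap k A))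
    (hGk : ∀ (σ : G) (c : k), σ • algebraMap k A c = algebraMap k A c) :
    ∃ (l : ℕ) (ψ : MvPowerSeries (Fin l) k →ₐ[k] A), ψ.toRingHom.Finite ∧
      (∀ (σ : G) p, σ • ψ p = ψ p) ∧
      ∃ e : ℕ, maximalIdeal A ^ e ≤ (PSLib.vars l k).map ψ.toRingHom ∧
        (PSLib.vars l k).map ψ.toRingHom ≤ maximalIdeal A := by
  classical
  obtain ⟨l, s, hsm, hsG, e, he⟩ := exists_fixed_span (A := A) (G := G)
  obtain ⟨ψ, hψ⟩ := PSLib.exists_algHom (R := k) (maximalIdeal A) s hsm
  have hvars : (PSLib.vars l k).map ψ.toRingHom = Ideal.span (Set.range s) := by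
    rw [PSLib.vars, Ideal.map_span, ← Set.range_comp]
    exact congrArg (fun f => Ideal.span (Set.range f)) (funext hψ)
  refine ⟨l, ψ, ?_, fun σ p => ?_, e, hvars ▸ he, hvars ▸ Ideal.span_le.mpr ?_⟩
  rotate_left
  · let τ : A →ₐ[k] A := { MulSemiringAction.toRingHom G A σ with commutes' := hGk σ }
    exact AlgHom.congr_fun (PSLib.algHom_ext (I := maximalIdeal A) (τ.comp ψ) ψ
      (fun i => by
        rw [AlgHom.comp_apply, hψ, show τ (s i) = s i from hsG σ i]; exact hsm i)
      fun i => by rw [AlgHom.comp_apply, hψ]; exact hsG σ i) p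
  · rintro _ ⟨i, rfl⟩; exact hsm i
  let S := MvPowerSeries (Fin l) k
  let : Algebra S A := ψ.toRingHom.toAlgebra
  have : IsScalarTower k S A := .of_algebraMap_eq fun c => (ψ.commutes c).symm
  have hJm : (PSLib.vars l k).map (algebraMap S A) ≤ maximalIdeal A :=
    hvars.le.trans (Ideal.span_le.mpr (by rintro _ ⟨i, rfl⟩; exact hsm i))
  have hH : IsHausdorff ((PSLib.vars l k).map (algebraMap S A)) A :=
    IsHausdorff.of_le_jacobson _ _ (hJm.trans (maximalIdeal_le_jacobson _))
  have : IsHausdorff (PSLib.vars l k) A := IsHausdorff.map_algebraMap_iff.mp hH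
  obtain ⟨V, hV⟩ := exists_fg_sup_pow (k := k) hk e
  let f : (V → S) →ₗ[S] A := Fintype.linearCombination S (fun v : V => (v : A))
  have : IsPrecomplete (PSLib.vars l k) (V → S) :=
    (AdicLib.isAdicComplete_of_finite (PSLib.vars l k) (V → S)).toIsPrecomplete
  have hf : Function.Surjective f := by
    refine surjective_of_mkQ_comp_surjective (I := PSLib.vars l k) fun z => ?_
    obtain ⟨a, rfl⟩ := Submodule.mkQ_surjective _ z
    obtain ⟨v, hv, hav⟩ := hV a
    have hvr : v ∈ LinearMap.range f := by
      have hle : Submodule.span k (V : Set A) ≤ (LinearMap.range f).restrictScalars k :=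
        Submodule.span_le.mpr fun x hx => by
          refine ⟨Pi.single ⟨x, hx⟩ 1, ?_⟩
          simp [f, Fintype.linearCombination_apply, Pi.single_apply, ite_smul]
      exact hle hv
    obtain ⟨c, rfl⟩ := hvr
    refine ⟨c, ?_⟩
    symm
    rw [LinearMap.comp_apply, Submodule.mkQ_apply, Submodule.mkQ_apply, Submodule.Quotient.eq,
      Ideal.smul_top_eq_map]
    exact hvars.symm ▸ he hav
  exact Module.Finite.of_surjective f hf

/-- The invariant subring is Noetherian, local, complete, the ring is finite over it, same dimension. -/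
theorem fixed_subring (hk : Function.Surjective (residue A ∘ algebraMap k A))
    (hGk : ∀ (σ : G) (c : k), σ • algebraMap k A c = algebraMap k A c) :
    IsNoetherianRing (FixedPoints.subring A G) ∧ Module.Finite (FixedPoints.subring A G) A ∧
      IsLocalRing (FixedPoints.subring A G) ∧
      ringKrullDim (FixedPoints.subring A G) = ringKrullDim A ∧
      IsAdicComplete (Ideal.comap (FixedPoints.subring A G).subtype (maximalIdeal A))
        (FixedPoints.subring A G) := by
  obtain ⟨l, ψ, hfin, hfix, e, he, hle⟩ := exists_powerSeries hk hGk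
  let R := FixedPoints.subring A G
  let S := MvPowerSeries (Fin l) k
  let : Algebra S A := ψ.toRingHom.toAlgebra
  let : Algebra S R := (ψ.toRingHom.codRestrict R fun p σ => hfix σ p).toAlgebra
  have : IsScalarTower S R A := .of_algebraMap_eq fun p => rfl
  have : Module.Finite S A := hfin
  have : IsNoetherian S A := isNoetherian_of_isNoetherianRing_of_finite S A
  have hRfin : Module.Finite S R :=
    Module.Finite.of_injective (IsScalarTower.toAlgHom S R A).toLinearMap Subtype.val_injective
  have : IsNoetherianRing R := isNoetherian_of_tower S (isNoetherian_of_isNoetherianRing_of_finite S R)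
  have : Module.Finite R A := Module.Finite.of_restrictScalars_finite S R A
  have hloc : IsLocalHom R.subtype := ⟨fun x hx => by
    obtain ⟨y, hy⟩ := hx.exists_right_inv
    refine IsUnit.of_mul_eq_one ⟨y, fun σ => hx.mul_left_cancel ?_⟩ (Subtype.ext hy)
    calc (x : A) * σ • y = σ • ((x : A) * y) := by rw [smul_mul', show σ • (x : A) = x from x.2 σ]
      _ = (x : A) * y := by rw [show (x : A) * y = 1 from hy, smul_one]⟩
  have : IsLocalRing R := RingHom.domain_isLocalRing R.subtype
  have : Algebra.IsIntegral R A := Algebra.IsIntegral.of_finite R A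
  refine ⟨‹_›, ‹_›, ‹_›,
    (EGA41Lib.ringKrullDim_eq_of_integral (A := R) (B := A) Subtype.val_injective).symm, ?_⟩
  let mR : Ideal R := Ideal.comap R.subtype (maximalIdeal A)
  have hS : IsAdicComplete ((PSLib.vars l k).map (algebraMap S R)) R :=
    (IsAdicComplete.map_algebraMap_iff _ _).mpr (AdicLib.isAdicComplete_of_finite (PSLib.vars l k) R)
  have hV : (PSLib.vars l k).map (algebraMap S R) ≤ mR := by
    rw [← Ideal.map_le_iff_le_comap, Ideal.map_map]
    exact hle
  have hrad : mR ≤ ((PSLib.vars l k).map (algebraMap S R)).radical := by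
    rw [Ideal.radical_eq_sInf]
    refine le_sInf fun q ⟨hq, hqp⟩ => ?_
    obtain ⟨Q, -, hQ, hQq⟩ := Ideal.exists_ideal_over_prime_of_isIntegral q (⊥ : Ideal A) (by
      rw [← RingHom.ker_eq_comap_bot,
        (RingHom.injective_iff_ker_eq_bot (algebraMap R A)).mp Subtype.val_injective]
      exact bot_le)
    have hQm : Q = maximalIdeal A := by
      refine le_antisymm (le_maximalIdeal hQ.ne_top) fun x hx => hQ.mem_of_pow_mem e ?_
      have h1 : (PSLib.vars l k).map ψ.toRingHom ≤ Q := by
        have : (PSLib.vars l k).map ψ.toRingHom =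
            ((PSLib.vars l k).map (algebraMap S R)).map (algebraMap R A) := by
          rw [Ideal.map_map]; rfl
        rw [this, Ideal.map_le_iff_le_comap]
        exact hq.trans hQq.symm.le
      exact h1 (he (Ideal.pow_mem_pow hx e))
    exact (le_of_eq (by rw [← hQq, hQm]; rfl))
  obtain ⟨c, hc⟩ := Ideal.exists_pow_le_of_le_radical_of_fg_radical hrad (IsNoetherian.noetherian _)
  exact (AdicLib.iff_of_pow_le (c := c + 1) (d := 1) (Nat.succ_pos _) one_pos
    ((Ideal.pow_le_pow_right (Nat.le_succ c)).trans hc) (by rw [pow_one]; exact hV)).mpr hS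

end Groth.Agent.WQ7
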