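import Groth.Agent.WQ7.Free
import Groth.Agent.WQ7.Complete
import Groth.Agent.RegLoc6.Basic
import Groth.Agent.RegLoc6.FlatDescent
import Mathlib.RingTheory.Flat.Localization
import Mathlib.RingTheory.Localization.LocalizationLocalization

/-!
The invariant ring of a wild `Z/p`-action with an isolated fixed point.
-/

set_option maxHeartbeats 1000000

namespace Groth.Agent.WQ7

universe u v w

open IsLocalRing

section

variable {A : Type u} [CommRing A] [IsDomain A] {G : Type w} [Group G] [MulSemiringAction G A]

/-- Invariants of a normal domain are normal. -/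
theorem isIntegrallyClosed_fixed [IsIntegrallyClosed A] :
    IsIntegrallyClosed (FixedPoints.subring A G) := by
  let R := FixedPoints.subring A G
  have : FaithfulSMul R A := (faithfulSMul_iff_algebraMap_injective R A).mpr Subtype.val_injective
  let K := FractionRing R
  let L := FractionRing A
  let := FractionRing.liftAlgebra R L
  refine (isIntegrallyClosed_iff K).mpr fun {x} hx => ?_
  obtain ⟨a, b, hb, rfl⟩ := IsFractionRing.div_surjective R x
  have h1 : IsIntegral A (algebraMap K L (algebraMap R K a / algebraMap R K b)) :=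
    (hx.map (IsScalarTower.toAlgHom R K L)).tower_top
  obtain ⟨c, hc⟩ := IsIntegrallyClosed.isIntegral_iff.mp h1
  have hb0 : (b : A) ≠ 0 := fun e => nonZeroDivisors.ne_zero hb (Subtype.ext e)
  have hbL : algebraMap A L b ≠ 0 := fun e => hb0 (IsFractionRing.injective A L (e.trans (map_zero _).symm))
  rw [map_div₀, ← IsScalarTower.algebraMap_apply, ← IsScalarTower.algebraMap_apply,
    IsScalarTower.algebraMap_apply R A L, IsScalarTower.algebraMap_apply R A L,
    eq_div_iff (by exact hbL), ← map_mul] at hc
  have hc' : c * (b : A) = a := IsFractionRing.injective A L hc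
  have hcR : c ∈ R := fun g => mul_right_cancel₀ hb0 (by
    calc g • c * (b : A) = g • (c * b) := by rw [smul_mul', show g • (b : A) = b from b.2 g]
      _ = c * b := by rw [hc', show g • (a : A) = a from a.2 g])
  refine ⟨⟨c, hcR⟩, ?_⟩
  have hbK : algebraMap R K b ≠ 0 :=
    fun e => nonZeroDivisors.ne_zero hb (IsFractionRing.injective R K (e.trans (map_zero _).symm))
  rw [eq_div_iff hbK, ← map_mul]
  exact congrArg _ (Subtype.ext hc')

end

section

variable {A : Type u} [CommRing A] [IsRegularLocalRing A] [IsAdicComplete (maximalIdeal A) A]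
  {k : Type v} [Field k] [Algebra k A] {G : Type w} [Group G] [Finite G] [MulSemiringAction G A]

theorem not_free (hdim : 2 ≤ ringKrullDim A) (hk : Function.Surjective (residue A ∘ algebraMap k A))
    (hGk : ∀ (σ : G) (c : k), σ • algebraMap k A c = algebraMap k A c) (hG : 1 < Nat.card G)
    (hram : ∀ P : Ideal A, P.IsPrime → P ≠ maximalIdeal A → P.inertia G = ⊥) :
    ¬ Module.Free (FixedPoints.subring A G) A := by
  classical
  intro hfree
  have : IsDomain A := RegLoc6.isDomain_of_isRegularLocalRing A
  have : IsIntegrallyClosed A := RegLoc6.isIntegrallyClosed_of_isRegularLocalRing A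
  have : FaithfulSMul G A := by
    refine ⟨fun {g g'} e => ?_⟩
    have h1 : g'⁻¹ * g ∈ (⊥ : Ideal A).inertia G := fun a => by
      have h2 := e a
      simp [mul_smul, h2]
    rw [hram ⊥ Ideal.isPrime_bot (fun h => by
      have hF : IsField A := isField_iff_maximalIdeal_eq.mpr h.symm
      rw [ringKrullDim_eq_zero_of_isField hF] at hdim
      norm_num at hdim), Subgroup.mem_bot] at h1
    exact (inv_mul_eq_one.mp h1).symm
  obtain ⟨hN, hfin, hloc, hd, -⟩ := fixed_subring (G := G) hk hGk
  let R := FixedPoints.subring A G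
  have : IsIntegrallyClosed R := isIntegrallyClosed_fixed
  have : SMulCommClass G R A := ⟨fun g r a => by
    show g • ((r : A) * a) = (r : A) * g • a
    rw [smul_mul', show g • (r : A) = r from r.2 g]⟩
  have : Algebra.IsIntegral R A := Algebra.IsIntegral.of_finite R A
  have hδ := delta_of_free (R := R) (A := A) (G := G) (fun a ha => ⟨⟨a, ha⟩, rfl⟩) fun Q hQ hQ1 => by
    refine hram Q hQ fun e => ?_
    subst e
    have : (maximalIdeal A).comap (algebraMap R A) = maximalIdeal R :=
      eq_maximalIdeal (Ideal.isMaximal_comap_of_isIntegral_of_isMaximal _)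
    rw [this] at hQ1
    have h3 := maximalIdeal_height_eq_ringKrullDim (R := R)
    rw [hd] at h3
    rw [← h3] at hdim
    have h4 : (2 : ℕ∞) ≤ (maximalIdeal R).height := WithBot.coe_le_coe.mp hdim
    exact absurd (h4.trans hQ1) (by norm_num)
  have h1 := inertia_eq_bot_of_delta hδ (maximalIdeal A) (maximalIdeal.isMaximal A).ne_top
  have : Subsingleton G := ⟨fun g g' => by
    have key : ∀ σ : G, σ = 1 := fun σ => (Subgroup.eq_bot_iff_forall _).mp h1 σ fun a =>
      smul_sub_self_mem hk hGk σ a
    rw [key g, key g']⟩
  exact absurd hG (not_lt.mpr (Finite.card_le_one_iff_subsingleton.mpr this))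

theorem regular_fixed_localization (hk : Function.Surjective (residue A ∘ algebraMap k A))
    (hGk : ∀ (σ : G) (c : k), σ • algebraMap k A c = algebraMap k A c)
    (hram : ∀ P : Ideal A, P.IsPrime → P ≠ maximalIdeal A → P.inertia G = ⊥)
    (P : Ideal (FixedPoints.subring A G)) [P.IsPrime] (hP : ¬ P.IsMaximal) :
    IsRegularLocalRing (Localization.AtPrime P) := by
  classical
  let := Fintype.ofFinite G
  obtain ⟨hN, hfin, -, -, -⟩ := fixed_subring (G := G) hk hGk
  let R := FixedPoints.subring A G
  have : Algebra.IsIntegral R A := Algebra.IsIntegral.of_finite R A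
  obtain ⟨r, hr, hδ⟩ := exists_delta (R := R) (A := A) (G := G) P fun Q hQ hQP =>
    hram Q hQ fun e => hP (by subst e; rw [← hQP]; exact Ideal.isMaximal_comap_of_isIntegral_of_isMaximal _)
  obtain ⟨l, x, y, hxy⟩ := exists_dual (r := r) (fun {_} => by convert hδ)
  let S : Submonoid R := Submonoid.powers r
  let S' := Algebra.algebraMapSubmonoid A S
  let R' := Localization S
  let A' := Localization S'
  let t : Fin l → A →ₗ[R] R := fun j =>
    { toFun := fun a => ⟨∑ g : G, g • (a * x j), fun h => by
        rw [Finset.smul_sum]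
        exact Fintype.sum_equiv (Equiv.mulLeft h) _ _ fun g => (mul_smul h g _).symm⟩
      map_add' := fun a b => Subtype.ext (by
        show ∑ g : G, g • ((a + b) * x j) = _ + _
        simp [add_mul, Finset.sum_add_distrib])
      map_smul' := fun c a => Subtype.ext (by
        show ∑ g : G, g • (((c : A) * a) * x j) = (c : A) * _
        rw [Finset.mul_sum]
        exact Finset.sum_congr rfl fun g _ => by
          rw [mul_assoc, smul_mul', show g • (c : A) = c from c.2 g]) }
  let f := (IsScalarTower.toAlgHom R A A').toLinearMap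
  have : IsLocalizedModule S f := isLocalizedModule_iff_isLocalization.mpr inferInstance
  let g₀ : A →ₗ[R] (Fin l → R') := LinearMap.pi fun j => (Algebra.linearMap R R').comp (t j)
  have hunit : ∀ s : S, IsUnit (algebraMap R (Module.End R (Fin l → R')) s) := fun s => by
    obtain ⟨u, hu⟩ := IsLocalization.map_units R' s
    rw [Module.End.isUnit_iff]
    refine Function.bijective_iff_has_inverse.mpr ⟨fun w i => (↑u⁻¹ : R') * w i, fun w => ?_, fun w => ?_⟩
    · funext i
      simp [Algebra.smul_def, ← hu]
    · funext i
      simp [Algebra.smul_def, ← hu]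
  let u : A' →ₗ[R] (Fin l → R') := IsLocalizedModule.lift S f g₀ hunit
  have hrA' : IsUnit (algebraMap R A' r) := by
    rw [IsScalarTower.algebraMap_apply R A A']
    exact IsLocalization.map_units A' (⟨_, ⟨r, Submonoid.mem_powers r, rfl⟩⟩ : S')
  let φ : R' →ₐ[R] A' := IsLocalization.liftAlgHom (M := S) (f := Algebra.ofId R A') (fun s => by
    obtain ⟨n, hn⟩ := s.2
    show IsUnit (algebraMap R A' (s : R))
    rw [← hn, map_pow]
    exact hrA'.pow n)
  let v : (Fin l → R') →ₗ[R] A' := ∑ j : Fin l,
    (LinearMap.mulRight R (algebraMap A A' (y j) * (↑hrA'.unit⁻¹ : A'))).comp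
      (φ.toLinearMap.comp (LinearMap.proj j))
  have hvu : v.comp u = LinearMap.id := by
    refine IsLocalizedModule.ext S f (IsLocalizedModule.map_units f) (LinearMap.ext fun a => ?_)
    show v (u (f a)) = f a
    rw [show u (f a) = g₀ a from IsLocalizedModule.lift_apply S f g₀ hunit a]
    simp only [v, LinearMap.sum_apply, LinearMap.comp_apply, LinearMap.proj_apply,
      LinearMap.mulRight_apply, AlgHom.toLinearMap_apply]
    have h1 : ∀ j, φ (g₀ a j) = algebraMap A A' (∑ g : G, g • (a * x j)) := fun j => by
      show φ (algebraMap R R' (t j a)) = _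
      rw [AlgHom.commutes, IsScalarTower.algebraMap_apply R A A']
      rfl
    simp only [h1, ← mul_assoc, ← Finset.sum_mul, ← map_mul, ← map_sum]
    rw [← hxy a, Units.mul_inv_eq_iff_eq_mul, Algebra.smul_def, map_mul,
      ← IsScalarTower.algebraMap_apply, mul_comm]
    rfl
  have : Module.Flat R R' := IsLocalization.flat R' S
  have : Module.Flat R (Fin l → R') :=
    Module.Flat.of_linearEquiv (DirectSum.linearEquivFunOnFintype R (Fin l) (fun _ => R')).symm
  have : Module.Flat R A' := Module.Flat.of_retract u v hvu
  obtain ⟨Q, -, hQ, hQP⟩ := Ideal.exists_ideal_over_prime_of_isIntegral P (⊥ : Ideal A) (by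
    rw [← RingHom.ker_eq_comap_bot,
      (RingHom.injective_iff_ker_eq_bot (algebraMap R A)).mp Subtype.val_injective]
    exact bot_le)
  have hdisj : Disjoint (S' : Set A) Q := by
    rw [Set.disjoint_left]
    rintro _ ⟨s, ⟨n, rfl⟩, rfl⟩ hm
    have h2 : r ^ n ∈ P := hQP ▸ hm
    exact hr (‹P.IsPrime›.mem_of_pow_mem n h2)
  let Q' := Q.map (algebraMap A A')
  have hQ' : Q'.IsPrime := IsLocalization.isPrime_of_isPrime_disjoint S' A' Q hQ hdisj
  have hcomap : Q'.comap (algebraMap A A') = Q :=
    IsLocalization.under_map_of_isPrime_disjoint S' A' hQ hdisj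
  refine RegLoc6.regular_under_of_flat (A := R) (B := A') Q' P
    (by rw [IsScalarTower.algebraMap_eq R A A', ← Ideal.comap_comap, hcomap, hQP]) ?_
  have : (Q'.comap (algebraMap A A')).IsPrime := inferInstance
  have := RegLoc6.isRegularLocalRing_localization A (Q'.comap (algebraMap A A'))
  exact IsRegularLocalRing.of_ringEquiv
    (IsLocalization.localizationLocalizationAtPrimeIsoLocalization S' Q').toRingEquiv

end

end Groth.Agent.WQ7
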