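import Groth.Agent.WQ7.Free
import Groth.Agent.FlatLoc6.Miracle
import Groth.Agent.FlatLoc6.RegCM
import Groth.Agent.RegLoc6.Seq
import Groth.Agent.RegLoc6.Serre
import Groth.Agent.RegLoc6.Normal
import Groth.Agent.CotTLib.CI
import Groth.Agent.LC.Sop
import Mathlib.RingTheory.Ideal.MinimalPrime.Localization
import Mathlib.RingTheory.Localization.Integral

/-!
Purity of the branch locus for cyclic extensions of degree `p` of regular local rings of
characteristic `p`, and for free / two-dimensional extensions.
-/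

namespace Groth.Agent.WQ7

universe u v w

open IsLocalRing RingTheory.Sequence

section

variable {A : Type u} [CommRing A] {B : Type v} [CommRing B] [Algebra A B]
  {G : Type w} [Group G] [Finite G] [MulSemiringAction G B]

/-- A prime over a prime of height at least two has height at least two. -/
theorem two_le_height [SMulCommClass G A B] [Algebra.IsInvariant A B G] [FaithfulSMul A B]
    (Q : Ideal B) [Q.IsPrime] (h : 2 ≤ (Q.comap (algebraMap A B)).height) : 2 ≤ Q.height := by
  have : Algebra.IsIntegral A B := Algebra.IsInvariant.isIntegral A B G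
  have hlift : ∀ q : PrimeSpectrum A, ∀ Q : PrimeSpectrum B,
      q < PrimeSpectrum.comap (algebraMap A B) Q →
      ∃ Q' : PrimeSpectrum B, Q' < Q ∧ PrimeSpectrum.comap (algebraMap A B) Q' = q := by
    intro q Q hlt
    obtain ⟨P, -, hP, hPq⟩ := Ideal.exists_ideal_over_prime_of_isIntegral q.asIdeal (⊥ : Ideal B) (by
      rw [← RingHom.ker_eq_comap_bot, (RingHom.injective_iff_ker_eq_bot _).mp
        (FaithfulSMul.algebraMap_injective A B)]
      exact bot_le)
    obtain ⟨P', hPP', hP', hP'q⟩ := Ideal.exists_ideal_over_prime_of_isIntegral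
      (Q.asIdeal.comap (algebraMap A B)) P (hPq.le.trans hlt.le)
    obtain ⟨g, hg⟩ := Algebra.IsInvariant.exists_smul_of_under_eq A B G P' Q.asIdeal hP'q
    open Pointwise in
    refine ⟨⟨g • P, hP.smul g⟩, ?_, ?_⟩
    · have hgP : (g • P).comap (algebraMap A B) = q.asIdeal := (P.under_smul A g).trans hPq
      refine lt_of_le_of_ne ((Ideal.map_mono hPP').trans hg.symm.le) fun e => hlt.ne ?_
      exact PrimeSpectrum.ext (hgP.symm.trans (congrArg (fun R => R.asIdeal.comap (algebraMap A B)) e))
    · exact PrimeSpectrum.ext ((P.under_smul A g).trans hPq)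
  have h' : ((2 : ℕ) : ℕ∞) ≤ Order.height (PrimeSpectrum.comap (algebraMap A B) ⟨Q, ‹_›⟩) :=
    le_of_le_of_eq h (PrimeSpectrum.height_eq_orderHeight (PrimeSpectrum.comap (algebraMap A B) ⟨Q, ‹_›⟩))
  obtain ⟨l, hl, hlen⟩ := Order.exists_series_of_le_height _ h'
  obtain ⟨Q₁, hQ₁, hc₁⟩ := hlift (l ⟨1, by omega⟩) ⟨Q, ‹_›⟩
    (lt_of_lt_of_eq (l.strictMono (show (⟨1, by omega⟩ : Fin (l.length + 1)) < Fin.last _ from
      Fin.mk_lt_mk.mpr (by omega))) hl)
  obtain ⟨Q₀, hQ₀, -⟩ := hlift (l ⟨0, by omega⟩) Q₁
    (lt_of_lt_of_eq (l.strictMono (show (⟨0, by omega⟩ : Fin (l.length + 1)) < ⟨1, by omega⟩ from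
      Fin.mk_lt_mk.mpr (by omega))) hc₁.symm)
  have h1 := Order.height_add_one_le hQ₀
  have h2 := Order.height_add_one_le hQ₁
  rw [show Q.height = Order.height (⟨Q, ‹_›⟩ : PrimeSpectrum B) from
    PrimeSpectrum.height_eq_orderHeight ⟨Q, ‹_›⟩]
  calc (2 : ℕ∞) = 0 + 1 + 1 := by norm_num
    _ ≤ Order.height Q₁ + 1 := by gcongr; exact le_trans (by gcongr; exact zero_le) h1
    _ ≤ _ := h2

/-- If `s, t` lie in no common prime of height `≤ 1` then `t` is regular modulo `s`. -/
theorem dvd_of_dvd_mul [IsNoetherianRing B] [IsDomain B] [IsIntegrallyClosed B] {s t z : B}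
    (hs : s ≠ 0) (h : ∀ Q : Ideal B, Q.IsPrime → Q.height ≤ 1 → s ∈ Q → t ∈ Q → False)
    (hd : s ∣ t * z) : s ∣ z :=
  dvd_of_height_le_one hs fun Q hQ hQ1 => by
    by_cases hsQ : s ∈ Q
    · exact ⟨t, fun ht => h Q hQ hQ1 hsQ ht, hd⟩
    · exact ⟨s, hsQ, dvd_mul_right s z⟩

omit [Algebra A B] [Finite G] in
/-- Two successive members of a regular sequence lie in no common prime of height at most one. -/
theorem not_mem_of_regular_pair [IsNoetherianRing A] [IsDomain A] {s t : A} (hs : s ≠ 0)
    (ht : ∀ z : A, s ∣ t * z → s ∣ z) (q : Ideal A) [q.IsPrime] (hq : q.height ≤ 1) (hsq : s ∈ q) :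
    t ∉ q := by
  intro htq
  have hle : Ideal.span {s} ≤ q := Ideal.span_le.mpr (Set.singleton_subset_iff.mpr hsq)
  obtain ⟨m, hm, hmq⟩ := Ideal.exists_minimalPrimes_le hle
  have := hm.1.1
  have hm0 : m ≠ ⊥ := fun e => hs (by
    simpa [e] using hm.1.2 (Ideal.mem_span_singleton_self s))
  have hmq' : m = q := by
    by_contra hne
    have h2 := Order.height_add_one_le (show (⟨m, hm.1.1⟩ : PrimeSpectrum A) < ⟨q, ‹_›⟩ from
      lt_of_le_of_ne hmq fun e => hne (congrArg PrimeSpectrum.asIdeal e))
    rw [← PrimeSpectrum.height_eq_orderHeight, ← PrimeSpectrum.height_eq_orderHeight] at h2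
    have h0 : 1 ≤ m.height :=
      Order.one_le_iff_pos.mpr (pos_iff_ne_zero.mpr fun e => hm0 (Ideal.height_eq_zero_iff_eq_bot.mp e))
    have h3 : m.height + 1 ≤ 1 := h2.trans hq
    have : (1 : ℕ∞) + 1 ≤ 1 := le_trans (by gcongr) h3
    norm_num at this
  subst hmq'
  let f := Ideal.Quotient.mk (Ideal.span {s})
  have hmin : m.map f ∈ minimalPrimes (A ⧸ Ideal.span {s}) := by
    have hp : (m.map f).IsPrime :=
      Ideal.map_isPrime_of_surjective Ideal.Quotient.mk_surjective (by rwa [Ideal.mk_ker])
    refine ⟨⟨hp, bot_le⟩, fun P hP hPle => ?_⟩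
    have := hP.1
    have hc : m ≤ P.comap f := hm.2 ⟨inferInstance, fun x hx => by
      show f x ∈ P
      rw [Ideal.Quotient.eq_zero_iff_mem.mpr hx]; exact P.zero_mem⟩
      ((Ideal.comap_mono hPle).trans (by
        rw [Ideal.comap_map_of_surjective _ Ideal.Quotient.mk_surjective, ← RingHom.ker_eq_comap_bot,
          Ideal.mk_ker]
        exact sup_le le_rfl hle))
    exact Ideal.map_le_iff_le_comap.mpr hc
  refine Set.disjoint_left.mp (Ideal.disjoint_nonZeroDivisors_of_mem_minimalPrimes hmin)
    (Ideal.mem_map_of_mem f htq) (mem_nonZeroDivisors_iff_right.mpr fun z hz => ?_)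
  obtain ⟨z, rfl⟩ := Ideal.Quotient.mk_surjective z
  rw [← map_mul, Ideal.Quotient.eq_zero_iff_mem, Ideal.mem_span_singleton, mul_comm] at hz
  exact Ideal.Quotient.eq_zero_iff_mem.mpr (Ideal.mem_span_singleton.mpr (ht z hz))

/-- A system of parameters prefix of a regular local ring. -/
theorem regular_triple [IsRegularLocalRing A] (J : Ideal A) {N : ℕ}
    (hJ : maximalIdeal A ^ N ≤ J) (hd : 2 ≤ ringKrullDim A) :
    ∃ s t : A, s ∈ J ∧ t ∈ J ∧ s ≠ 0 ∧ (∀ z : A, s ∣ t * z → s ∣ z) ∧
      (3 ≤ ringKrullDim A → ∃ w ∈ J, ∀ z : A, w * z ∈ Ideal.span {s, t} → z ∈ Ideal.span {s, t}) := by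
  have := RegLoc6.isDomain_of_isRegularLocalRing A
  obtain ⟨d, hd'⟩ : ∃ d : ℕ, ringKrullDim A = d := ⟨_, ((isRegularLocalRing_iff A).1 inferInstance).symm⟩
  obtain ⟨xs, hxs, hm⟩ := RegLoc6.exists_regularSequence_maximalIdeal A
  have hlen : xs.length = d := by
    have h := Module.supportDim_add_length_eq_supportDim_of_isRegular xs hxs
    have he := Module.supportDim_eq_of_equiv (Submodule.quotEquivOfEq
      (Ideal.ofList xs • ⊤ : Submodule A A) (IsLocalRing.maximalIdeal A)
      (by rw [hm, Ideal.smul_eq_mul, Ideal.mul_top]))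
    rw [he, Module.supportDim_self_eq_ringKrullDim, Module.supportDim_eq_ringKrullDim_quotient_annihilator,
      Ideal.annihilator_quotient, hd'] at h
    letI := Ideal.Quotient.field (IsLocalRing.maximalIdeal A)
    rw [ringKrullDim_eq_zero_of_field, zero_add] at h
    exact_mod_cast h
  let M := N + 1
  let rs := xs.map (· ^ M)
  have hxm : ∀ x ∈ xs, x ∈ maximalIdeal A := fun x hx => hm ▸ Ideal.subset_span hx
  have hrsJ : ∀ r ∈ rs, r ∈ J := fun r hr => by
    obtain ⟨x, hx, rfl⟩ := List.mem_map.mp hr
    exact hJ (Ideal.pow_le_pow_right (Nat.le_succ N) (Ideal.pow_mem_pow (hxm x hx) M))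
  have hrad : (Ideal.ofList rs).radical = maximalIdeal A := by
    refine le_antisymm ?_ ?_
    · refine (Ideal.radical_mono (Ideal.span_le.mpr fun r hr => ?_)).trans
        (maximalIdeal.isMaximal A).isPrime.radical.le
      obtain ⟨x, hx, rfl⟩ := List.mem_map.mp hr
      exact Ideal.pow_mem_of_mem _ (hxm x hx) _ (Nat.succ_pos N)
    · conv_lhs => rw [← hm]
      exact Ideal.span_le.mpr fun x hx => ⟨M, Ideal.subset_span (List.mem_map.mpr ⟨x, hx, rfl⟩)⟩
  have hw := LC.isWeaklyRegular_of_sop (CotTLib.isCM_of_isRegularLocalRing A) d hd' rs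
    (by simp [rs, hlen]) hrad
  have h2 : 2 ≤ d := by rw [hd'] at hd; exact_mod_cast hd
  match rs, hw, hrsJ, (show rs.length = d by simp [rs, hlen]) with
  | [], _, _, h => simp at h; omega
  | [_], _, _, h => simp at h; omega
  | s :: t :: rest, hw, hmem, h =>
    have hw0 := hw
    rw [show s :: t :: rest = [s] ++ t :: rest from rfl, isWeaklyRegular_append_iff,
      isWeaklyRegular_singleton_iff, isWeaklyRegular_cons_iff] at hw
    obtain ⟨hs, ht, -⟩ := hw
    have hs0 : s ≠ 0 := fun e => one_ne_zero (α := A) (hs (show s • (1 : A) = s • (0 : A) by simp [e]))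
    refine ⟨s, t, hmem s (by simp), hmem t (by simp), hs0, fun z hz => ?_, fun h3 => ?_⟩
    · have he : (Ideal.ofList [s] • ⊤ : Submodule A A) = Ideal.span {s} := by
        rw [Ideal.ofList_singleton, smul_eq_mul, Ideal.mul_top]
      have := ht (show t • (Submodule.Quotient.mk z : A ⧸ (Ideal.ofList [s] • ⊤ : Submodule A A)) = t • 0 by
        rw [smul_zero, ← Submodule.Quotient.mk_smul, Submodule.Quotient.mk_eq_zero, he]
        exact Ideal.mem_span_singleton.mpr hz)
      rw [Submodule.Quotient.mk_eq_zero, he] at this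
      exact Ideal.mem_span_singleton.mp this
    · have h3' : 3 ≤ d := by rw [hd'] at h3; exact_mod_cast h3
      match rest, hmem, h, hw0 with
      | [], _, h, _ => simp at h; omega
      | w :: rest', hmem, h, hw0 =>
        refine ⟨w, hmem w (by simp), fun z hz => ?_⟩
        rw [show s :: t :: w :: rest' = [s, t] ++ w :: rest' from rfl, isWeaklyRegular_append_iff] at hw0
        have hw1 := ((isWeaklyRegular_cons_iff _ _ _).mp hw0.2).1
        have he : (Ideal.ofList [s, t] • ⊤ : Submodule A A) = Ideal.span {s, t} := by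
          rw [smul_eq_mul, Ideal.mul_top]
          exact congrArg Ideal.span (by ext; simp)
        have := hw1 (show w • (Submodule.Quotient.mk z : A ⧸ (Ideal.ofList [s, t] • ⊤ : Submodule A A)) = w • 0 by
          rw [smul_zero, ← Submodule.Quotient.mk_smul, Submodule.Quotient.mk_eq_zero, he]
          exact hz)
        rw [Submodule.Quotient.mk_eq_zero, he] at this
        exact this

end


section Free

variable {R : Type u} [CommRing R] [IsRegularLocalRing R] {A : Type v} [CommRing A] [IsDomain A]
  [IsIntegrallyClosed A] [Algebra R A] [Module.Finite R A]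
  {G : Type w} [Group G] [Finite G] [MulSemiringAction G A] [SMulCommClass G R A]

/-- A normal finite extension of a two-dimensional regular local ring is free. -/
theorem free_of_dim_two [Algebra.IsInvariant R A G] (hinj : Function.Injective (algebraMap R A))
    (hdim : ringKrullDim R = 2) : Module.Free R A := by
  let R' : Subring A := (algebraMap R A).range
  let e : R ≃+* R' := RingEquiv.ofBijective (algebraMap R A).rangeRestrict
    ⟨fun a b h => hinj (congrArg Subtype.val h), (algebraMap R A).rangeRestrict_surjective⟩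
  have : IsRegularLocalRing R' := IsRegularLocalRing.of_ringEquiv e
  have : IsDomain R' := RegLoc6.isDomain_of_isRegularLocalRing R'
  have hc : ∀ r : R, ((e r : R') : A) = algebraMap R A r := fun r => rfl
  have : Module.Finite R' A := by
    obtain ⟨s, hs⟩ := ‹Module.Finite R A›.fg_top
    refine ⟨⟨s, eq_top_iff.mpr ?_⟩⟩
    rintro x -
    have hx : x ∈ Submodule.span R (s : Set A) := hs ▸ Submodule.mem_top
    induction hx using Submodule.span_induction with
    | mem y hy => exact Submodule.subset_span hy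
    | zero => exact zero_mem _
    | add a b _ _ ha hb => exact add_mem ha hb
    | smul r a _ ha =>
      rw [Algebra.smul_def, ← hc]
      exact Submodule.smul_mem _ (e r) ha
  have : IsNoetherianRing A := isNoetherian_of_tower R' (isNoetherian_of_isNoetherianRing_of_finite R' A)
  have : SMulCommClass G R' A := ⟨fun g r a => by
    obtain ⟨r, rfl⟩ := e.surjective r
    show g • (((e r : R') : A) * a) = ((e r : R') : A) * g • a
    rw [hc, smul_mul', smul_algebraMap]⟩
  have : Algebra.IsInvariant R' A G := ⟨fun a ha => by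
    obtain ⟨r, rfl⟩ := Algebra.IsInvariant.isInvariant (A := R) (G := G) a ha
    exact ⟨e r, rfl⟩⟩
  obtain ⟨xs, hxs, hm⟩ := RegLoc6.exists_regularSequence_maximalIdeal R'
  have hd : ringKrullDim R' = 2 := (ringKrullDim_eq_of_ringEquiv e).symm.trans hdim
  have hlen : xs.length = 2 := by
    have h := Module.supportDim_add_length_eq_supportDim_of_isRegular xs hxs
    have he := Module.supportDim_eq_of_equiv (Submodule.quotEquivOfEq
      (Ideal.ofList xs • ⊤ : Submodule R' R') (maximalIdeal R')
      (by rw [hm, Ideal.smul_eq_mul, Ideal.mul_top]))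
    rw [he, Module.supportDim_self_eq_ringKrullDim, Module.supportDim_eq_ringKrullDim_quotient_annihilator,
      Ideal.annihilator_quotient, hd] at h
    let := Ideal.Quotient.field (maximalIdeal R')
    rw [ringKrullDim_eq_zero_of_field, zero_add] at h
    exact_mod_cast h
  obtain ⟨s, t, rfl⟩ := List.length_eq_two.mp hlen
  have hw := hxs.toIsWeaklyRegular
  rw [show [s, t] = [s] ++ [t] from rfl, isWeaklyRegular_append_iff, isWeaklyRegular_singleton_iff,
    isWeaklyRegular_singleton_iff] at hw
  have hs0 : s ≠ 0 := fun h => one_ne_zero (α := R')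
    (hw.1 (show s • (1 : R') = s • (0 : R') by simp [h]))
  have hmax : ∀ q : Ideal R', q.IsPrime → s ∈ q → t ∈ q → q = maximalIdeal R' := fun q hq h1 h2 =>
    le_antisymm (le_maximalIdeal hq.ne_top) (hm ▸ Ideal.span_le.mpr fun x hx => by
      simp only [Set.mem_setOf_eq, List.mem_cons, List.not_mem_nil, or_false] at hx
      rcases hx with rfl | rfl <;> assumption)
  have hsA : (s : A) ≠ 0 := fun h => hs0 (Subtype.ext h)
  have key : ∀ z : A, (s : A) ∣ (t : A) * z → (s : A) ∣ z := fun z hz =>
    dvd_of_dvd_mul hsA (fun Q hQ hQ1 h1 h2 => by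
      have h2' : 2 ≤ (Q.comap (algebraMap R' A)).height := by
        rw [hmax (Q.comap (algebraMap R' A)) inferInstance h1 h2]
        have := maximalIdeal_height_eq_ringKrullDim (R := R')
        rw [hd] at this
        exact WithBot.coe_le_coe.mp (show ((2 : ℕ∞) : WithBot ℕ∞) ≤ _ from this.ge)
      have : (2 : ℕ∞) ≤ 1 := (two_le_height (G := G) Q h2').trans hQ1
      norm_num at this) hz
  have hreg : IsWeaklyRegular A [s, t] := by
    rw [show [s, t] = [s] ++ [t] from rfl, isWeaklyRegular_append_iff, isWeaklyRegular_singleton_iff,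
      isWeaklyRegular_singleton_iff]
    refine ⟨fun a b h => mul_left_cancel₀ hsA h, fun a b h => ?_⟩
    obtain ⟨a, rfl⟩ := Submodule.Quotient.mk_surjective _ a
    obtain ⟨b, rfl⟩ := Submodule.Quotient.mk_surjective _ b
    have hmem : ∀ x : A, x ∈ (Ideal.ofList [s] • ⊤ : Submodule R' A) ↔ (s : A) ∣ x := fun x => by
      rw [Ideal.ofList_singleton, Submodule.ideal_span_singleton_smul, Submodule.mem_smul_pointwise_iff_exists]
      exact ⟨fun ⟨y, _, hy⟩ => ⟨y, hy.symm⟩, fun ⟨y, hy⟩ => ⟨y, Submodule.mem_top, hy.symm⟩⟩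
    simp only [← Submodule.Quotient.mk_smul, Submodule.Quotient.eq, hmem, ← smul_sub] at h ⊢
    exact key _ h
  have : Module.Flat R' A := by
    refine LocalCrit.flat_of_le_jacobson (B := A) (maximalIdeal R') ?_ ?_
      (LocalCrit.keepsInjective_of_isMaximal _ A)
    · refine le_sInf fun J ⟨_, hJ⟩ => ?_
      rw [Ideal.map_le_iff_le_comap]
      have : Algebra.IsIntegral R' A := Algebra.IsIntegral.of_finite _ _
      exact (eq_maximalIdeal (Ideal.isMaximal_comap_of_isIntegral_of_isMaximal J)).ge
    · rw [← hm]; exact FlatLoc6.rTensor_ofList_injective [s, t] hreg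
  have : Module.Free R' A := Module.free_of_flat_of_isLocalRing
  let b := Module.Free.chooseBasis R' A
  refine Module.Free.of_basis (b.mapCoeffs e.symm fun c x => ?_)
  rw [Algebra.smul_def, ← hc, e.apply_symm_apply]
  rfl

end Free

section Cyclic

/-- Extension of a group action to a localization at a stable submonoid. -/
noncomputable def locHom {B : Type v} [CommRing B] {G : Type w} [Group G] [MulSemiringAction G B]
    (M : Submonoid B) (hM : ∀ g : G, ∀ m ∈ M, g • m = m)
    (B' : Type v) [CommRing B'] [Algebra B B'] [IsLocalization M B'] : G →* (B' ≃+* B') where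
  toFun g := IsLocalization.ringEquivOfRingEquiv (M := M) B' B' (MulSemiringAction.toRingEquiv G B g)
    (by
      ext x
      exact ⟨fun ⟨m, hm, e⟩ => e ▸ (show g • m ∈ M by rwa [hM g m hm]), fun hx => ⟨x, hx, hM g x hx⟩⟩)
  map_one' := RingEquiv.toRingHom_injective (IsLocalization.ringHom_ext M (RingHom.ext fun b => by
    simp [IsLocalization.ringEquivOfRingEquiv_eq]))
  map_mul' g h := RingEquiv.toRingHom_injective (IsLocalization.ringHom_ext M (RingHom.ext fun b => by
    simp [IsLocalization.ringEquivOfRingEquiv_eq, mul_smul]))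

theorem locHom_algebraMap {B : Type v} [CommRing B] {G : Type w} [Group G] [MulSemiringAction G B]
    (M : Submonoid B) (hM : ∀ g : G, ∀ m ∈ M, g • m = m)
    (B' : Type v) [CommRing B'] [Algebra B B'] [IsLocalization M B'] (g : G) (b : B) :
    locHom M hM B' g (algebraMap B B' b) = algebraMap B B' (g • b) := by
  simp [locHom, IsLocalization.ringEquivOfRingEquiv_eq]

theorem inertia_eq_bot_aux (p : ℕ) [hp : Fact p.Prime] (G : Type w) [Group G] [Finite G]
    (hcard : Nat.card G = p) : ∀ (n : ℕ) (A : Type u) [CommRing A] [IsRegularLocalRing A] [CharP A p]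
    (B : Type u) [CommRing B] [IsDomain B] [IsIntegrallyClosed B] [Algebra A B] [Module.Finite A B]
    [MulSemiringAction G B] [SMulCommClass G A B] [FaithfulSMul G B] [FaithfulSMul A B]
    [Algebra.IsInvariant A B G],
    ringKrullDim A ≤ n →
    (∀ Q : Ideal B, Q.IsPrime → (Q.comap (algebraMap A B)).height ≤ 1 → Q.inertia G = ⊥) →
    ∀ Q : Ideal B, Q.IsPrime → Q.inertia G = ⊥ := by
  intro n
  induction n using Nat.strong_induction_on with
  | _ n ih =>
  intro A _ _ _ B _ _ _ _ _ _ _ _ _ _ hn h1 Q hQ
  classical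
  have := RegLoc6.isDomain_of_isRegularLocalRing A
  have : IsIntegrallyClosed A := RegLoc6.isIntegrallyClosed_of_isRegularLocalRing A
  have : IsNoetherianRing B := isNoetherian_of_tower A (isNoetherian_of_isNoetherianRing_of_finite A B)
  have : Algebra.IsIntegral A B := Algebra.IsIntegral.of_finite A B
  let := Fintype.ofFinite G
  obtain ⟨d, hd⟩ : ∃ d : ℕ, ringKrullDim A = d := ⟨_, ((isRegularLocalRing_iff A).1 inferInstance).symm⟩
  have hdn : d ≤ n := by rw [hd] at hn; exact_mod_cast hn
  -- the non-maximal primes, by induction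
  have hlow : ∀ q : Ideal A, q.IsPrime → q ≠ maximalIdeal A →
      ∀ P : Ideal B, P.IsPrime → P.comap (algebraMap A B) = q → P.inertia G = ⊥ := by
    intro q hq hqm P hP hPq
    let A' := Localization.AtPrime q
    let M := Algebra.algebraMapSubmonoid B q.primeCompl
    let B' := Localization M
    have hM0 : M ≤ nonZeroDivisors B := by
      rintro _ ⟨a, ha, rfl⟩
      exact mem_nonZeroDivisors_of_ne_zero fun e => ha (by
        rw [show a = 0 from FaithfulSMul.algebraMap_injective A B (e.trans (map_zero _).symm)]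
        exact q.zero_mem)
    have hM : ∀ g : G, ∀ m ∈ M, g • m = m := fun g m ⟨a, _, e⟩ => e ▸ smul_algebraMap g a
    let : MulSemiringAction G B' := MulSemiringAction.compHom B' (locHom M hM B')
    have hact : ∀ (g : G) (b : B), g • algebraMap B B' b = algebraMap B B' (g • b) := fun g b =>
      locHom_algebraMap M hM B' g b
    let : Algebra A' B' := localizationAlgebra q.primeCompl B
    have : IsScalarTower A A' B' := IsScalarTower.of_algebraMap_eq fun a => by
      rw [IsScalarTower.algebraMap_apply A B B']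
      exact (IsLocalization.map_eq _ a).symm
    have := RegLoc6.isRegularLocalRing_localization A q
    have : CharP A' p := charP_of_injective_algebraMap
      (IsLocalization.injective A' q.primeCompl_le_nonZeroDivisors) p
    have : IsDomain B' := IsLocalization.isDomain_localization hM0
    have : IsIntegrallyClosed B' := isIntegrallyClosed_of_isLocalization B' M hM0
    have : Module.Finite A' B' := Module.Finite.of_isLocalization A B q.primeCompl
    have hinjB : Function.Injective (algebraMap B B') := IsLocalization.injective B' hM0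
    have hA' : ∀ (g : G) (a : A'), g • algebraMap A' B' a = algebraMap A' B' a := fun g a => by
      obtain ⟨x, t, rfl⟩ := IsLocalization.exists_mk'_eq q.primeCompl a
      have hu := IsLocalization.map_units A' t
      refine (hu.map (algebraMap A' B')).mul_right_cancel ?_
      have ht : g • algebraMap A' B' (algebraMap A A' t) = algebraMap A' B' (algebraMap A A' t) := by
        rw [← IsScalarTower.algebraMap_apply, IsScalarTower.algebraMap_apply A B B', hact, smul_algebraMap]
      conv_lhs => rw [← ht, ← smul_mul', ← map_mul, IsLocalization.mk'_spec,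
        ← IsScalarTower.algebraMap_apply, IsScalarTower.algebraMap_apply A B B', hact, smul_algebraMap]
      rw [← map_mul, IsLocalization.mk'_spec, ← IsScalarTower.algebraMap_apply A B B',
        ← IsScalarTower.algebraMap_apply A A' B']
    have : SMulCommClass G A' B' := ⟨fun g a b => by
      rw [Algebra.smul_def, Algebra.smul_def, smul_mul', hA']⟩
    have : IsLocalization (Submonoid.map (algebraMap A B) q.primeCompl) B' :=
      (inferInstance : IsLocalization M B')
    have : FaithfulSMul A' B' := (faithfulSMul_iff_algebraMap_injective A' B').mpr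
      (IsLocalization.map_injective_of_injective q.primeCompl A' B' (FaithfulSMul.algebraMap_injective A B))
    have : FaithfulSMul G B' := ⟨fun {g g'} e => FaithfulSMul.eq_of_smul_eq_smul (α := B) fun b =>
      hinjB (by rw [← hact, ← hact, e])⟩
    have : Algebra.IsInvariant A' B' G := ⟨fun z hz => by
      obtain ⟨b, ⟨_, t, ht, rfl⟩, rfl⟩ := IsLocalization.exists_mk'_eq M z
      have hb : ∀ g : G, g • b = b := fun g => hinjB (by
        rw [← hact, ← IsLocalization.mk'_spec B' b (⟨_, t, ht, rfl⟩ : M), smul_mul', hz g, hact,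
          smul_algebraMap])
      obtain ⟨a, rfl⟩ := Algebra.IsInvariant.isInvariant (A := A) b hb
      refine ⟨IsLocalization.mk' A' a ⟨t, ht⟩, ?_⟩
      rw [IsLocalization.eq_mk'_iff_mul_eq]
      show _ * algebraMap B B' (algebraMap A B t) = algebraMap B B' (algebraMap A B a)
      rw [← IsScalarTower.algebraMap_apply, ← IsScalarTower.algebraMap_apply,
        IsScalarTower.algebraMap_apply A A' B', IsScalarTower.algebraMap_apply A A' B', ← map_mul,
        IsLocalization.mk'_spec]⟩
    have hdimq : ringKrullDim A' = q.height := IsLocalization.AtPrime.ringKrullDim_eq_height q A'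
    have hlt : q.height < d := by
      have h2 := Ideal.height_strict_mono_of_isPrime
        (lt_of_le_of_ne (le_maximalIdeal hq.ne_top) hqm)
      have h3 := maximalIdeal_height_eq_ringKrullDim (R := A)
      rw [hd] at h3
      exact lt_of_lt_of_le h2 (by exact_mod_cast h3.le)
    obtain ⟨m, hm⟩ := ENat.ne_top_iff_exists.mp hlt.ne_top
    have hm' : m < d := by rw [← hm] at hlt; exact_mod_cast hlt
    have hdisj : Disjoint (M : Set B) (P : Set B) := Set.disjoint_left.mpr fun x ⟨a, ha, e⟩ hx =>
      ha (hPq ▸ (show algebraMap A B a ∈ P from e.symm ▸ hx))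
    have hP' := IsLocalization.isPrime_of_isPrime_disjoint M B' P hP hdisj
    have hres := ih m (lt_of_lt_of_le hm' hdn) A' B'
      (by rw [hdimq, ← hm]; exact_mod_cast le_rfl) (fun Q' hQ' hh => by
        rw [Subgroup.eq_bot_iff_forall]
        intro g hg
        refine (Subgroup.eq_bot_iff_forall _).mp (h1 (Q'.comap (algebraMap B B')) inferInstance ?_) g
          fun b => ?_
        · have e : (Q'.comap (algebraMap B B')).comap (algebraMap A B) =
              (Q'.comap (algebraMap A' B')).comap (algebraMap A A') := by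
            rw [Ideal.comap_comap, Ideal.comap_comap, ← IsScalarTower.algebraMap_eq,
              ← IsScalarTower.algebraMap_eq]
          rw [e]
          exact (IsLocalization.height_under q.primeCompl (Q'.comap (algebraMap A' B'))).le.trans hh
        · show algebraMap B B' (g • b - b) ∈ Q'
          rw [map_sub, ← hact]; exact hg _) _ hP'
    rw [Subgroup.eq_bot_iff_forall] at hres ⊢
    intro g hg
    refine hres g fun z => ?_
    obtain ⟨b, t, rfl⟩ := IsLocalization.exists_mk'_eq M z
    have ht : g • algebraMap B B' t = algebraMap B B' t := by rw [hact, hM g t t.2]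
    have : (g • IsLocalization.mk' B' b t - IsLocalization.mk' B' b t) * algebraMap B B' t =
        algebraMap B B' (g • b - b) := by
      rw [sub_mul, IsLocalization.mk'_spec, map_sub, ← hact]
      congr 1
      rw [← IsLocalization.mk'_spec B' b t, smul_mul', ht]
    exact (Ideal.mul_unit_mem_iff_mem _ (IsLocalization.map_units B' t)).mp
      (this ▸ Ideal.mem_map_of_mem _ (hg b))
  -- the maximal ideal
  by_cases hQm : Q.comap (algebraMap A B) = maximalIdeal A
  swap
  · exact hlow _ inferInstance hQm Q hQ rfl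
  rcases Nat.lt_or_ge d 2 with hd2 | hd2
  · refine h1 Q hQ ?_
    rw [hQm]
    have h3 := maximalIdeal_height_eq_ringKrullDim (R := A)
    rw [hd] at h3
    have h4 : (maximalIdeal A).height = (d : ℕ∞) := by exact_mod_cast h3
    rw [h4]
    exact_mod_cast Nat.lt_succ_iff.mp hd2
  rcases Nat.lt_or_ge d 3 with hd3 | hd3
  · have : Module.Free A B := free_of_dim_two (G := G) (FaithfulSMul.algebraMap_injective A B)
      (by rw [hd, show d = 2 by omega]; rfl)
    exact inertia_eq_bot_of_delta
      (delta_of_free (fun a ha => Algebra.IsInvariant.isInvariant (A := A) a ha) h1) Q hQ.ne_top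
  -- dimension at least three
  obtain ⟨σ, hσ⟩ := (isCyclic_of_prime_card hcard).exists_generator
  have hord : orderOf σ = p := (orderOf_eq_card_of_forall_mem_zpowers hσ).trans hcard
  let J : Ideal A :=
    { carrier := {c | ∃ b : B, σ • b - b = algebraMap A B c}
      zero_mem' := ⟨0, by simp⟩
      add_mem' := fun ⟨b, hb⟩ ⟨b', hb'⟩ => ⟨b + b', by
        rw [smul_add, map_add, ← hb, ← hb']; abel⟩
      smul_mem' := fun a c ⟨b, hb⟩ => ⟨a • b, by
        rw [smul_comm, ← smul_sub, hb, Algebra.smul_def, ← map_mul]; rfl⟩ }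
  have hJq : ∀ q : Ideal A, q.IsPrime → q ≠ maximalIdeal A → ¬ J ≤ q := by
    intro q hq hqm hle
    obtain ⟨r, hr, hδ⟩ := exists_delta (G := G) q fun P hP hPq => hlow q hq hqm P hP hPq
    obtain ⟨l, x, y, hxy⟩ := exists_dual (r := r) (fun {_} => by convert hδ)
    obtain ⟨P, -, hP, hPq⟩ := Ideal.exists_ideal_over_prime_of_isIntegral q (⊥ : Ideal B) (by
      rw [← RingHom.ker_eq_comap_bot, (RingHom.injective_iff_ker_eq_bot _).mp
        (FaithfulSMul.algebraMap_injective A B)]
      exact bot_le)
    refine hr (hPq ▸ ?_)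
    show algebraMap A B r ∈ P
    have h1' := hxy 1
    rw [Algebra.smul_def, mul_one] at h1'
    rw [h1']
    refine sum_mem fun k _ => Ideal.mul_mem_right _ _ ?_
    rw [one_mul]
    -- traces lie in `J`
    let a : ℕ → B := fun i => σ ^ i • x k
    have htr : ∑ g : G, g • x k = ∑ i ∈ Finset.range p, a (i + 1) := by
      refine (Finset.sum_bij' (fun i _ => σ ^ (i + 1)) (fun g _ => ((finEquivZPowers
        (isOfFinOrder_of_finite σ)).symm ⟨g * σ⁻¹, hσ _⟩).1) ?_ ?_ ?_ ?_ ?_).symm
      · exact fun i _ => Finset.mem_univ _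
      · intro g _
        have := ((finEquivZPowers (isOfFinOrder_of_finite σ)).symm ⟨g * σ⁻¹, hσ _⟩).2
        exact Finset.mem_range.mpr (lt_of_lt_of_eq this hord)
      · intro i hi
        have hi' : i < orderOf σ := hord.symm ▸ Finset.mem_range.mp hi
        have h5 : (finEquivZPowers (isOfFinOrder_of_finite σ)) ⟨i, hi'⟩ =
            ⟨σ ^ (i + 1) * σ⁻¹, hσ _⟩ := Subtype.ext (by
            rw [finEquivZPowers_apply]; simp [pow_succ])
        rw [← h5, Equiv.symm_apply_apply]
      · intro g _
        have := congrArg Subtype.val ((finEquivZPowers (isOfFinOrder_of_finite σ)).apply_symm_apply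
          ⟨g * σ⁻¹, hσ _⟩)
        simp only [finEquivZPowers_apply] at this
        rw [pow_succ, this, inv_mul_cancel_right]
      · exact fun i _ => rfl
    obtain ⟨c, hc⟩ := Algebra.IsInvariant.isInvariant (A := A) (G := G) (∑ g : G, g • x k) fun t => by
      rw [Finset.smul_sum]
      exact Fintype.sum_equiv (Equiv.mulLeft t) _ _ fun g => (mul_smul t g _).symm
    suffices c ∈ J by
      rw [← hc]
      exact (hPq.ge (hle this) : c ∈ P.comap (algebraMap A B))
    refine ⟨-∑ i ∈ Finset.range p, (i : B) * a i, ?_⟩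
    have hid : ∀ m : ℕ, ∑ i ∈ Finset.range m, (i : B) * (a (i + 1) - a i) =
        (m : B) * a m - ∑ i ∈ Finset.range m, a (i + 1) := by
      intro m
      induction m with
      | zero => simp
      | succ m ihm =>
        rw [Finset.sum_range_succ, Finset.sum_range_succ, ihm]
        push_cast; ring
    have hpB : (p : B) = 0 := by
      rw [← map_natCast (algebraMap A B), CharP.cast_eq_zero, map_zero]
    have := hid p
    rw [hpB, zero_mul, zero_sub] at this
    have hcast : ∀ i : ℕ, σ • (i : B) = (i : B) := fun i =>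
      map_natCast (MulSemiringAction.toRingHom G B σ) i
    rw [hc, htr, smul_neg, Finset.smul_sum, ← neg_neg (∑ i ∈ Finset.range p, a (i + 1)), ← this,
      neg_sub_neg, ← Finset.sum_sub_distrib, ← Finset.sum_neg_distrib]
    refine Finset.sum_congr rfl fun i _ => ?_
    rw [smul_mul', hcast, show σ • a i = a (i + 1) by simp [a, pow_succ', mul_smul]]
    ring
  have hJm : maximalIdeal A ≤ J.radical := by
    rw [Ideal.radical_eq_sInf]
    exact le_sInf fun q ⟨hle, hq⟩ => by
      by_cases e : q = maximalIdeal A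
      · exact e.ge
      · exact absurd hle (hJq q hq e)
  obtain ⟨N, hN⟩ := Ideal.exists_pow_le_of_le_radical_of_fg_radical hJm (IsNoetherian.noetherian _)
  obtain ⟨s, t, ⟨bs, hbs⟩, ⟨bt, hbt⟩, hs0, hst, h3⟩ := regular_triple J hN
    (by rw [hd]; exact_mod_cast hd2)
  obtain ⟨w, ⟨bw, hbw⟩, hw⟩ := h3 (by rw [hd]; exact_mod_cast hd3)
  have hgen : ∀ x : B, σ • x = x → ∃ c, algebraMap A B c = x := fun x hx =>
    Algebra.IsInvariant.isInvariant (A := A) x fun g => by
      obtain ⟨j, rfl⟩ := hσ g
      exact (show σ ∈ MulAction.stabilizer G x from hx) |> fun h => Subgroup.zpow_mem _ h j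
  have hcross : ∀ (c₁ c₂ : A) (b₁ b₂ : B), σ • b₁ - b₁ = algebraMap A B c₁ →
      σ • b₂ - b₂ = algebraMap A B c₂ → ∃ e, algebraMap A B e = c₂ • b₁ - c₁ • b₂ := fun c₁ c₂ b₁ b₂ e₁ e₂ => by
    refine hgen _ ?_
    rw [← sub_eq_zero, smul_sub, smul_comm σ c₂ b₁, smul_comm σ c₁ b₂]
    rw [eq_add_of_sub_eq e₁, eq_add_of_sub_eq e₂]
    simp only [Algebra.smul_def]; ring
  obtain ⟨e₁, he₁⟩ := hcross s t bs bt hbs hbt
  obtain ⟨e₂, he₂⟩ := hcross s w bs bw hbs hbw
  obtain ⟨e₃, he₃⟩ := hcross t w bt bw hbt hbw
  have hrel : w * e₁ = t * e₂ - s * e₃ := FaithfulSMul.algebraMap_injective A B (by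
    simp only [map_mul, map_sub, he₁, he₂, he₃, Algebra.smul_def]; ring)
  obtain ⟨α, β, hαβ⟩ := Ideal.mem_span_pair.mp (hw e₁ (by
    rw [hrel]
    exact sub_mem (Ideal.mul_mem_right _ _ (Ideal.subset_span (by simp)))
      (Ideal.mul_mem_right _ _ (Ideal.subset_span (by simp)))))
  let z := bs - algebraMap A B β
  have hz : algebraMap A B t * z = algebraMap A B s * (bt + algebraMap A B α) := by
    have := congrArg (algebraMap A B) hαβ
    rw [map_add, map_mul, map_mul, he₁, Algebra.smul_def, Algebra.smul_def] at this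
    simp only [z]; linear_combination -this
  have hsB : algebraMap A B s ≠ 0 :=
    fun e => hs0 (FaithfulSMul.algebraMap_injective A B (e.trans (map_zero _).symm))
  obtain ⟨b, hb⟩ := dvd_of_dvd_mul (t := algebraMap A B t) (z := z) hsB (fun P hP hP1 hsP htP => by
    have h2 : ¬ (P.comap (algebraMap A B)).height ≤ 1 := fun hle =>
      not_mem_of_regular_pair hs0 hst _ hle hsP htP
    have : (2 : ℕ∞) ≤ 1 := (two_le_height (G := G) P (by
      rcases le_or_gt (2 : ℕ∞) (P.comap (algebraMap A B)).height with h | h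
      · exact h
      · exact absurd (Order.le_of_lt_add_one (by rw [one_add_one_eq_two]; exact h)) h2)).trans hP1
    norm_num at this) ⟨_, hz⟩
  have hb1 : σ • b - b = 1 := mul_left_cancel₀ hsB (by
    rw [mul_one, mul_sub, ← hb]
    conv_lhs => arg 1; rw [← smul_algebraMap σ s, ← smul_mul', ← hb]
    simp only [z, smul_sub, smul_algebraMap]
    rw [← hbs]; abel)
  rw [Subgroup.eq_bot_iff_forall]
  intro g hg
  by_contra hne
  have hσI : σ ∈ Q.inertia G := by
    have : Q.inertia G = ⊤ := by
      have : Fact (Nat.card G).Prime := ⟨hcard ▸ hp.out⟩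
      exact ((Q.inertia G).eq_bot_or_eq_top_of_prime_card).resolve_left
        fun e => hne (by rw [e] at hg; exact Subgroup.mem_bot.mp hg)
    rw [this]; trivial
  have hmem := hσI b
  rw [hb1] at hmem
  exact hQ.ne_top ((Ideal.eq_top_iff_one Q).mpr hmem)

end Cyclic

end Groth.Agent.WQ7
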