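import Groth.Agent.WQ7.Params
import Groth.Agent.WQ7.Purity
import Groth.Agent.WQ7.Invariants
import Mathlib

/-!
A wild `Z/p`-quotient with isolated fixed point is not purely inseparable over a smooth parameter ring.
-/

set_option maxHeartbeats 2000000
set_option synthInstance.maxHeartbeats 200000

namespace Groth.Agent.WQ7

universe u v w

open IsLocalRing

/-- If `R ⊆ A` is a regular subring with finite extension, fixed by `G` of prime order `p`, then some
invariant has no `p`-power in `R`. -/
theorem exists_not_radicial (p : ℕ) [hp : Fact p.Prime] {A : Type u} [CommRing A] [IsRegularLocalRing A]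
    [CharP A p] (hdim : 2 ≤ ringKrullDim A) {G : Type w} [Group G] [Finite G] [MulSemiringAction G A]
    (hcard : Nat.card G = p) (hram : ∀ P : Ideal A, P.IsPrime → P ≠ maximalIdeal A → P.inertia G = ⊥)
    (htriv : ∀ (g : G) (a : A), g • a - a ∈ maximalIdeal A)
    (R : Subring A) [IsRegularLocalRing R] [Module.Finite R A] (hRG : ∀ (g : G) (r : R), g • (r : A) = r) :
    ∃ y : A, (∀ g : G, g • y = y) ∧ ∀ e : ℕ, y ^ p ^ e ∉ R := by
  classical
  by_contra! hcon
  have : IsDomain A := RegLoc6.isDomain_of_isRegularLocalRing A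
  have : IsIntegrallyClosed A := RegLoc6.isIntegrallyClosed_of_isRegularLocalRing A
  have : IsDomain R := RegLoc6.isDomain_of_isRegularLocalRing R
  have : IsIntegrallyClosed R := RegLoc6.isIntegrallyClosed_of_isRegularLocalRing R
  have : FaithfulSMul R A := (faithfulSMul_iff_algebraMap_injective R A).mpr Subtype.val_injective
  have : FaithfulSMul G A := by
    refine ⟨fun {g g'} e => ?_⟩
    have h1 : g'⁻¹ * g ∈ (⊥ : Ideal A).inertia G := fun a => by
      have h2 := e a
      simp [mul_smul, h2]
    rw [hram ⊥ Ideal.isPrime_bot (fun h => by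
      have hF : IsField A := isField_iff_maximalIdeal_eq.mpr h.symm
      rw [ringKrullDim_eq_zero_of_isField hF] at hdim
      norm_num at hdim), Subgroup.mem_bot] at h1
    exact (inv_mul_eq_one.mp h1).symm
  have : Algebra.IsIntegral R A := Algebra.IsIntegral.of_finite R A
  have : IsNoetherian R A := isNoetherian_of_isNoetherianRing_of_finite R A
  let K := FractionRing R
  let L := FractionRing A
  let : Algebra K L := FractionRing.liftAlgebra R L
  have hRK : Function.Injective (algebraMap R K) := IsFractionRing.injective R K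
  have hAL : Function.Injective (algebraMap A L) := IsFractionRing.injective A L
  have hcompat : ∀ r : R, algebraMap K L (algebraMap R K r) = algebraMap A L (r : A) := fun r => by
    rw [← IsScalarTower.algebraMap_apply, IsScalarTower.algebraMap_apply R A L]; rfl
  have : CharP L p := charP_of_injective_algebraMap hAL p
  have : CharP K p := (algebraMap K L).charP (algebraMap K L).injective p
  have : ExpChar K p := ExpChar.prime hp.out
  have hintL : ∀ a : A, IsIntegral K (algebraMap A L a) := fun a =>
    ((Algebra.IsIntegral.isIntegral (R := R) a).map (IsScalarTower.toAlgHom R A L)).tower_top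
  have : Algebra.IsAlgebraic K L := ⟨fun z => by
    obtain ⟨a, b, -, rfl⟩ := IsFractionRing.div_surjective A z
    rw [div_eq_mul_inv]
    exact ((hintL a).mul (hintL b).inv).isAlgebraic⟩
  let : MulSemiringAction G L := IsFractionRing.mulSemiringAction G A L
  have hL : ∀ (g : G) (a : A), g • algebraMap A L a = algebraMap A L (g • a) := fun g a => by
    simp [Algebra.algebraMap_eq_smul_one, smul_distrib_smul]
  have hgK : ∀ (g : G) (c : K), g • algebraMap K L c = algebraMap K L c := fun g c => by
    obtain ⟨a, b, -, rfl⟩ := IsFractionRing.div_surjective R c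
    rw [map_div₀, smul_div₀', hcompat, hcompat, hL, hL, hRG, hRG]
  let σ : G → L →ₐ[K] L := fun g =>
    { MulSemiringAction.toRingHom G L g with commutes' := hgK g }
  let E := separableClosure K L
  let A' : Subalgebra R A := (E.toSubalgebra.restrictScalars R).comap (IsScalarTower.toAlgHom R A L)
  have hmem : ∀ a : A, a ∈ A' ↔ algebraMap A L a ∈ E := fun a => Iff.rfl
  have hstab : ∀ (g : G) (a : A'), g • (a : A) ∈ A' := fun g a => by
    rw [hmem, ← hL]
    exact (map_mem_separableClosure_iff (σ g)).mpr a.2
  let : MulSemiringAction G A' :=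
    { smul := fun g a => ⟨g • (a : A), hstab g a⟩
      one_smul := fun a => Subtype.ext (one_smul G (a : A))
      mul_smul := fun g h a => Subtype.ext (mul_smul g h (a : A))
      smul_zero := fun g => Subtype.ext (smul_zero g)
      smul_add := fun g a b => Subtype.ext (smul_add g (a : A) b)
      smul_one := fun g => Subtype.ext (smul_one g)
      smul_mul := fun g a b => Subtype.ext (smul_mul' g (a : A) b) }
  have hv : ∀ (g : G) (a : A'), ((g • a : A') : A) = g • (a : A) := fun g a => rfl
  have : Module.Finite R A' :=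
    Module.Finite.of_injective (A'.val.toLinearMap) Subtype.val_injective
  have : FaithfulSMul R A' := (faithfulSMul_iff_algebraMap_injective R A').mpr fun r s h =>
    Subtype.ext (congrArg Subtype.val h :)
  have : SMulCommClass G R A' := ⟨fun g r a => Subtype.ext (by
    show g • ((r : A) * (a : A)) = (r : A) * g • (a : A)
    rw [smul_mul', hRG])⟩
  -- `A / A'` is purely inseparable
  have hpow : ∀ a : A, ∃ m : ℕ, a ^ p ^ m ∈ A' := fun a => by
    have : ExpChar E p := by
      have : CharP E p := (algebraMap E L).charP (algebraMap E L).injective p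
      exact ExpChar.prime hp.out
    obtain ⟨m, w, hw⟩ := IsPurelyInseparable.pow_mem E p (algebraMap A L a)
    exact ⟨m, by rw [hmem, map_pow, ← hw]; exact w.2⟩
  have hinertia : ∀ (P : Ideal A) [P.IsPrime] (Q : Ideal A'), P.comap A'.val = Q →
      Q.inertia G ≤ P.inertia G := by
    intro P _ Q hPQ g hg a
    obtain ⟨m, hm⟩ := hpow a
    have h1 : A'.val (g • (⟨a ^ p ^ m, hm⟩ : A') - ⟨a ^ p ^ m, hm⟩) ∈ P := by
      rw [← Ideal.mem_comap, hPQ]; exact hg _
    rw [map_sub] at h1
    change g • a ^ p ^ m - a ^ p ^ m ∈ P at h1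
    rw [smul_pow', ← sub_pow_char_pow] at h1
    exact ‹P.IsPrime›.mem_of_pow_mem _ h1
  have : FaithfulSMul G A' := by
    refine ⟨fun {g g'} e => ?_⟩
    refine FaithfulSMul.eq_of_smul_eq_smul (α := A) fun a => ?_
    obtain ⟨m, hm⟩ := hpow a
    have h := congrArg Subtype.val (e ⟨_, hm⟩)
    simp only [hv, smul_pow'] at h
    exact sub_eq_zero.mp (eq_zero_of_pow_eq_zero (by rw [sub_pow_char_pow, h, sub_self]))
  have : IsIntegrallyClosed A' := by
    let K' := FractionRing A'
    have : FaithfulSMul A' L := (faithfulSMul_iff_algebraMap_injective A' L).mpr fun a b h =>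
      Subtype.ext (hAL h)
    let : Algebra K' L := FractionRing.liftAlgebra A' L
    refine (isIntegrallyClosed_iff K').mpr fun {x} hx => ?_
    obtain ⟨a, b, hb, rfl⟩ := IsFractionRing.div_surjective A' x
    have h1 : IsIntegral A (algebraMap K' L (algebraMap A' K' a / algebraMap A' K' b)) :=
      (hx.map (IsScalarTower.toAlgHom A' K' L)).tower_top
    obtain ⟨c, hc⟩ := IsIntegrallyClosed.isIntegral_iff.mp h1
    rw [map_div₀, ← IsScalarTower.algebraMap_apply, ← IsScalarTower.algebraMap_apply] at hc
    have hcA : c ∈ A' := by rw [hmem, hc]; exact div_mem a.2 b.2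
    refine ⟨⟨c, hcA⟩, (algebraMap K' L).injective ?_⟩
    rw [← IsScalarTower.algebraMap_apply, map_div₀, ← IsScalarTower.algebraMap_apply, ← IsScalarTower.algebraMap_apply]
    exact hc
  have : Algebra.IsInvariant R A' G := ⟨fun a ha => by
    obtain ⟨e, he⟩ := hcon a fun g => congrArg Subtype.val (ha g)
    have hsep : IsSeparable K (algebraMap A L a) := a.2
    have hK : algebraMap A L a ∈ (⊥ : IntermediateField K L) := by
      have h2 : IntermediateField.adjoin K {algebraMap A L a} = ⊥ := by
        rw [IntermediateField.adjoin_simple_eq_adjoin_pow_expChar_pow_of_isSeparable K L hsep p e,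
          IntermediateField.adjoin_simple_eq_bot_iff]
        exact ⟨algebraMap R K ⟨_, he⟩, by
          show algebraMap K L _ = _
          rw [hcompat, map_pow]⟩
      rw [← h2]
      exact IntermediateField.mem_adjoin_simple_self K _
    obtain ⟨c, hc⟩ := IntermediateField.mem_bot.mp hK
    have hci : IsIntegral R c := by
      rw [← isIntegral_algHom_iff (IsScalarTower.toAlgHom R K L) (algebraMap K L).injective]
      show IsIntegral R (algebraMap K L c)
      rw [hc]
      exact (Algebra.IsIntegral.isIntegral (R := R) (a : A)).map (IsScalarTower.toAlgHom R A L)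
    obtain ⟨r, hr⟩ := IsIntegrallyClosed.isIntegral_iff.mp hci
    refine ⟨r, Subtype.ext (hAL ?_)⟩
    rw [← hc, ← hr]
    exact (hcompat r).symm⟩
  have : CharP R p := R.subtype.charP Subtype.val_injective p
  obtain ⟨d, hd⟩ : ∃ d : ℕ, ringKrullDim R = d := ⟨_, ((isRegularLocalRing_iff R).1 inferInstance).symm⟩
  have hdR : 2 ≤ ringKrullDim R :=
    (EGA41Lib.ringKrullDim_eq_of_integral (A := R) (B := A) Subtype.val_injective) ▸ hdim
  have hall := inertia_eq_bot_aux p G hcard d R A' hd.le fun Q hQ hQ1 => by
    have : Algebra.IsIntegral A' A := Algebra.IsIntegral.tower_top R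
    obtain ⟨P, -, hP, hPQ⟩ := Ideal.exists_ideal_over_prime_of_isIntegral Q (⊥ : Ideal A) (by
      rw [← RingHom.ker_eq_comap_bot, (RingHom.injective_iff_ker_eq_bot (algebraMap A' A)).mp Subtype.val_injective]
      exact bot_le)
    have hPm : P ≠ maximalIdeal A := fun e => by
      subst e
      have hcm : ((maximalIdeal A).comap (algebraMap R A)) = maximalIdeal R :=
        eq_maximalIdeal (Ideal.isMaximal_comap_of_isIntegral_of_isMaximal _)
      have hQR : Q.comap (algebraMap R A') = maximalIdeal R := by
        rw [← hcm, ← hPQ, Ideal.comap_comap]; rfl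
      rw [hQR] at hQ1
      rw [← maximalIdeal_height_eq_ringKrullDim (R := R)] at hdR
      exact absurd ((WithBot.coe_le_coe.mp hdR : (2 : ℕ∞) ≤ _).trans hQ1) (by norm_num)
    exact eq_bot_iff.mpr ((hinertia P Q hPQ).trans (hram P hP hPm).le)
  have hQ : ((maximalIdeal A).comap A'.val).IsPrime := inferInstance
  have hbot := hall _ hQ
  have : Subsingleton G := ⟨fun g g' => by
    have key : ∀ s : G, s = 1 := fun s => (Subgroup.eq_bot_iff_forall _).mp hbot s fun a => htriv s (a : A)
    rw [key g, key g']⟩
  have := Finite.card_le_one_iff_subsingleton.mpr this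
  rw [hcard] at this
  exact absurd this (not_le.mpr hp.out.one_lt)

/-- Some invariant has no `p`-power in the ring of norm parameters. -/
theorem exists_fixed_pow_notMem (p : ℕ) [hp : Fact p.Prime] {A : Type u} [CommRing A] [IsRegularLocalRing A]
    [CharP A p] [IsAdicComplete (maximalIdeal A) A] {n : ℕ} (hn : ringKrullDim A = n) (h2 : 2 ≤ n)
    {k : Type v} [Field k] [Algebra k A] (hk : Function.Surjective (residue A ∘ algebraMap k A))
    {G : Type w} [Group G] [Fintype G] [MulSemiringAction G A] (hcard : Fintype.card G = p)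
    [SMulCommClass G k A]
    (hram : ∀ P : Ideal A, P.IsPrime → P ≠ maximalIdeal A → P.inertia G = ⊥)
    (u : Fin n → A) (hu : ∀ τ : Fin n → G, Ideal.span (Set.range fun i => τ i • u i) = maximalIdeal A)
    (φ : MvPowerSeries (Fin n) k →ₐ[k] A) (hφ : ∀ i, φ (MvPowerSeries.X i) = ∏ σ : G, σ • u i) :
    ∃ y : A, (∀ σ : G, σ • y = y) ∧ ∀ e : ℕ, y ^ p ^ e ∉ Set.range φ := by
  classical
  have hdim : 2 ≤ ringKrullDim A := by rw [hn]; exact_mod_cast h2
  have hGk : ∀ (σ : G) (c : k), σ • algebraMap k A c = algebraMap k A c := fun σ c => smul_algebraMap σ c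
  let x : Fin n → A := fun i => ∏ σ : G, σ • u i
  have hxm : ∀ i, x i ∈ maximalIdeal A := fun i => by
    refine Ideal.mem_of_dvd _ (Finset.dvd_prod_of_mem (fun σ : G => σ • u i) (Finset.mem_univ 1)) ?_
    rw [← hu fun _ => 1]
    exact Ideal.subset_span ⟨i, rfl⟩
  have hrad : (Ideal.span (Set.range x)).radical = maximalIdeal A := by
    refine le_antisymm ((maximalIdeal.isMaximal A).isPrime.radical_le_iff.mpr
      (Ideal.span_le.mpr (by rintro _ ⟨i, rfl⟩; exact hxm i))) ?_
    rw [Ideal.radical_eq_sInf]
    refine le_sInf fun P hP => ?_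
    obtain ⟨hle, hp'⟩ := hP
    have := fun i => (hp'.prod_mem_iff (s := Finset.univ) (x := fun σ : G => σ • u i)).mp
      (hle (Ideal.subset_span ⟨i, rfl⟩))
    choose τ _ hτ using this
    rw [← hu τ, Ideal.span_le]
    rintro _ ⟨i, rfl⟩
    exact hτ i
  have hinj := params_injective hk hn x hrad φ hφ
  let R : Subring A := φ.toRingHom.range
  have := PSLib.isRegularLocalRing k n
  have : IsRegularLocalRing R := IsRegularLocalRing.of_ringEquiv
    (RingEquiv.ofBijective φ.toRingHom.rangeRestrict
      ⟨fun a b h => hinj (congrArg Subtype.val h), φ.toRingHom.rangeRestrict_surjective⟩)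
  have hfin : (R.subtype).Finite := RingHom.Finite.of_comp_finite (f := φ.toRingHom.rangeRestrict) (g := R.subtype)
    (by
      have : R.subtype.comp φ.toRingHom.rangeRestrict = φ.toRingHom := RingHom.ext fun _ => rfl
      rw [this]
      exact params_finite hk x hrad φ hφ)
  have : Module.Finite R A := RingHom.finite_algebraMap.mp hfin
  have hRG : ∀ (g : G) (r : R), g • (r : A) = r := fun g ⟨_, s, rfl⟩ => by
    let τ : A →ₐ[k] A := { MulSemiringAction.toRingHom G A g with commutes' := hGk g }
    refine AlgHom.congr_fun (PSLib.algHom_ext (I := maximalIdeal A) (τ.comp φ) φ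
      (fun i => ?_) fun i => ?_) s
    · rw [AlgHom.comp_apply, hφ]
      show g • x i ∈ _
      rw [show g • x i = x i by
        simp only [x, Finset.smul_prod', ← mul_smul]
        exact Fintype.prod_equiv (Equiv.mulLeft g) _ _ fun _ => rfl]
      exact hxm i
    · rw [AlgHom.comp_apply, hφ]
      show g • x i = x i
      simp only [x, Finset.smul_prod', ← mul_smul]
      exact Fintype.prod_equiv (Equiv.mulLeft g) _ _ fun _ => rfl
  obtain ⟨y, hy, hy'⟩ := exists_not_radicial p hdim (Nat.card_eq_fintype_card.trans hcard) hram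
    (fun g a => smul_sub_self_mem hk hGk g a) R hRG
  exact ⟨y, hy, fun e ⟨s, hs⟩ => hy' e ⟨s, hs⟩⟩

end Groth.Agent.WQ7
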