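import Groth.Agent.WQ7.Purity
import Groth.Agent.WQ7.Complete
import Groth.Agent.Hensel.IntegralStrict
import Mathlib.RingTheory.Invariant.Galois
import Mathlib.FieldTheory.Fixed
import Mathlib.FieldTheory.Galois.Basic
import Mathlib.FieldTheory.IsAlgClosed.AlgebraicClosure
import Mathlib.RingTheory.IntegralClosure.IntegrallyClosed

/-!
Automorphisms of the invariants of a wild `Z/p`-action with isolated fixed point extend.
-/

set_option maxHeartbeats 4000000
set_option synthInstance.maxHeartbeats 400000

namespace Groth.Agent.WQ7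

universe u v w

open IsLocalRing IntermediateField

section

variable {A : Type u} [CommRing A] [IsDomain A] {G : Type w} [Group G] [Finite G]
  [MulSemiringAction G A] (k : Type v) [Field k] [Algebra k A] [SMulCommClass G k A]

theorem exists_extend (p : ℕ) [hp : Fact p.Prime] [IsRegularLocalRing A] [CharP A p]
    [IsAdicComplete (maximalIdeal A) A] (hdim : 2 ≤ ringKrullDim A)
    (hk : Function.Surjective (residue A ∘ algebraMap k A))
    (hkp : ∀ (L : Type v) [Field L] [Algebra k L], IsGalois k L → Module.finrank k L ≠ p)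
    (hcard : Nat.card G = p)
    (hram : ∀ P : Ideal A, P.IsPrime → P ≠ maximalIdeal A → P.inertia G = ⊥)
    (φ : FixedPoints.subalgebra k A G ≃ₐ[k] FixedPoints.subalgebra k A G) :
    ∃ ψ : A →ₐ[k] A, ∀ x : FixedPoints.subalgebra k A G, ψ x = φ x := by
  classical
  let := Fintype.ofFinite G
  have hp1 : p ≠ 1 := hp.out.one_lt.ne'
  have : FaithfulSMul G A := by
    refine ⟨fun {g g'} e => ?_⟩
    have h1 : g'⁻¹ * g ∈ (⊥ : Ideal A).inertia G := fun a => by
      have h2 := e a
      simp [mul_smul, h2]
    rw [hram ⊥ Ideal.isPrime_bot (fun h => by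
      have hF : IsField A := isField_iff_maximalIdeal_eq.mpr h.symm
      rw [ringKrullDim_eq_zero_of_isField hF] at hdim
      norm_num at hdim), Subgroup.mem_bot] at h1
    exact (inv_mul_eq_one.mp h1).symm
  let R := FixedPoints.subalgebra k A G
  let L := FractionRing A
  let : MulSemiringAction G L := IsFractionRing.mulSemiringAction G A L
  have hL : ∀ (g : G) (a : A), g • algebraMap A L a = algebraMap A L (g • a) := fun g a => by
    simp [Algebra.algebraMap_eq_smul_one, smul_distrib_smul]
  have : FaithfulSMul G L := ⟨fun {g h} e => FaithfulSMul.eq_of_smul_eq_smul (α := A) fun a =>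
    IsFractionRing.injective A L (by rw [← hL, ← hL, e])⟩
  let K := FixedPoints.subfield G L
  let : Algebra R K := (((algebraMap A L).comp R.val.toRingHom).codRestrict K
    fun r g => (hL g _).trans (congrArg (algebraMap A L) (r.2 g))).toAlgebra
  have hRK : ∀ r : R, ((algebraMap R K r : K) : L) = algebraMap A L r := fun r => rfl
  have : FaithfulSMul R K := (faithfulSMul_iff_algebraMap_injective R K).mpr fun r r' e =>
    Subtype.ext (IsFractionRing.injective A L (congrArg Subtype.val e))
  have : IsFractionRing R K := IsFractionRing.of_field R K fun z => by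
    obtain ⟨a, r, hr, ha, e⟩ := exists_eq_div (R := R) (A := A) (H := G)
      (fun a ha => ⟨⟨a, ha⟩, rfl⟩) L hL ⊤ (z : L) fun g _ => z.2 g
    refine ⟨⟨a, fun g => ha g trivial⟩, r, Subtype.ext ?_⟩
    show (z : L) = algebraMap A L a / algebraMap A L (r : A)
    rw [e, show algebraMap R A r = (r : A) from rfl, mul_div_cancel_right₀]
    exact fun h => hr (IsFractionRing.injective A L (h.trans (map_zero _).symm))
  let φK : K ≃+* K := IsFractionRing.ringEquivOfRingEquiv φ.toRingEquiv
  have hφK : ∀ r : R, (φK (algebraMap R K r) : L) = algebraMap A L (φ r) := fun r => by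
    rw [IsFractionRing.ringEquivOfRingEquiv_algebraMap]; rfl
  let Ω := AlgebraicClosure L
  obtain ⟨ι, hι⟩ : ∃ ι : L →+* Ω, ∀ c : K, ι c = algebraMap L Ω (φK c) := by
    let : Algebra K Ω := ((algebraMap L Ω).comp (K.subtype.comp φK.toRingHom)).toAlgebra
    exact ⟨(IsAlgClosed.lift : L →ₐ[K] Ω).toRingHom, fun c => (IsAlgClosed.lift : L →ₐ[K] Ω).commutes c⟩
  have hιR : ∀ r : R, ι (algebraMap A L r) = algebraMap L Ω (algebraMap A L (φ r)) := fun r => by
    rw [← hRK, hι, hφK]
  by_cases hsub : ∀ x : A, ι (algebraMap A L x) ∈ (algebraMap L Ω).range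
  · -- the image lies in `L`, hence in `A`
    have : IsIntegrallyClosed A := RegLoc6.isIntegrallyClosed_of_isRegularLocalRing A
    choose b hb using hsub
    have hint : ∀ x, ∃ a : A, algebraMap A L a = b x := fun x => by
      have h1 : IsIntegral R x := by
        have : Algebra.IsInvariant R A G := ⟨fun a ha => ⟨⟨a, ha⟩, rfl⟩⟩
        have : SMulCommClass G R A := ⟨fun g r a => by
          show g • ((r : A) * a) = (r : A) * g • a
          rw [smul_mul', r.2 g]⟩
        exact (Algebra.IsInvariant.isIntegral R A G).isIntegral x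
      obtain ⟨f, hf, hfx⟩ := h1
      refine IsIntegrallyClosed.isIntegral_iff.mp ⟨f.map ((R.val : R →+* A).comp φ.toRingEquiv.toRingHom),
        hf.map _, (algebraMap L Ω).injective ?_⟩
      rw [map_zero, Polynomial.hom_eval₂, hb x, Polynomial.eval₂_map]
      have := congrArg (fun a => ι (algebraMap A L a)) hfx
      simp only [map_zero] at this
      rw [Polynomial.hom_eval₂, Polynomial.hom_eval₂] at this
      refine Eq.trans (congrArg (fun g => Polynomial.eval₂ g _ f) ?_) this
      exact RingHom.ext fun r => (hιR r).symm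
    choose a ha using hint
    have hψ : ∀ x, algebraMap L Ω (algebraMap A L (a x)) = ι (algebraMap A L x) := fun x => by
      rw [ha, hb]
    have hinj : Function.Injective fun x => algebraMap L Ω (algebraMap A L x) :=
      (algebraMap L Ω).injective.comp (IsFractionRing.injective A L)
    refine ⟨{ toFun := a
              map_one' := hinj (by simp [hψ])
              map_mul' := fun x y => hinj (by simp [hψ])
              map_zero' := hinj (by simp [hψ])
              map_add' := fun x y => hinj (by simp [hψ])
              commutes' := fun c => hinj ((hψ _).trans ?_) }, fun x => hinj ((hψ _).trans (hιR x))⟩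
    have := hιR (algebraMap k R c)
    rwa [φ.commutes] at this
  push Not at hsub
  obtain ⟨x₀, hx₀⟩ := hsub
  exfalso
  -- the compositum
  have hfin : Module.finrank K L = p := by
    rw [FixedPoints.finrank_eq_card, ← Nat.card_eq_fintype_card, hcard]
  let y := ι (algebraMap A L x₀)
  let M : IntermediateField L Ω := L⟮y⟯
  have hx₀K : algebraMap A L x₀ ∉ K := fun h => hx₀ ⟨_, (hι ⟨_, h⟩).symm⟩
  have hgen : ∀ {T : Type u} [Field T] (f f' : L →+* T), (∀ c : K, f c = f' c) →
      f (algebraMap A L x₀) = f' (algebraMap A L x₀) → f = f' := by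
    intro T _ f f' hc hx
    let E : IntermediateField K L := (RingHom.eqLocusField f f').toIntermediateField fun c => hc c
    have : E = ⊤ := by
      refine ((IntermediateField.isSimpleOrder_of_finrank_prime (F := K) (E := L)
        (hfin.symm ▸ hp.out)).eq_bot_or_eq_top E).resolve_left fun e => hx₀K ?_
      have hmem : algebraMap A L x₀ ∈ E := hx
      rw [e, IntermediateField.mem_bot] at hmem
      obtain ⟨c, hc⟩ := hmem
      exact hc ▸ c.2
    exact RingHom.ext fun l => (show l ∈ E from this ▸ IntermediateField.mem_top)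
  have hKM : ∀ c : K, ι c ∈ M := fun c => hι c ▸ M.algebraMap_mem _
  have hLM : ∀ l : L, ι l ∈ M := fun l => by
    let E : IntermediateField K L := (M.toSubfield.comap ι).toIntermediateField fun c => hKM c
    have : E = ⊤ := by
      refine ((IntermediateField.isSimpleOrder_of_finrank_prime (F := K) (E := L)
        (hfin.symm ▸ hp.out)).eq_bot_or_eq_top E).resolve_left fun e => hx₀K ?_
      have hmem : algebraMap A L x₀ ∈ E := IntermediateField.mem_adjoin_simple_self L y
      rw [e, IntermediateField.mem_bot] at hmem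
      obtain ⟨c, hc⟩ := hmem
      exact hc ▸ c.2
    exact (show l ∈ E from this ▸ IntermediateField.mem_top)
  let ιM : L →+* M := ι.codRestrict M hLM
  -- the polynomial
  let c₀ := MulSemiringAction.charpoly G (algebraMap A L x₀)
  have hc₀ : ∀ i, c₀.coeff i ∈ K := fun i g => MulSemiringAction.smul_coeff_charpoly _ i g
  have hlift : (c₀.map ι) ∈ Polynomial.lifts (algebraMap L Ω) := by
    rw [Polynomial.lifts_iff_coeff_lifts]
    intro i
    rw [Polynomial.coeff_map, show c₀.coeff i = ((⟨_, hc₀ i⟩ : K) : L) from rfl, hι]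
    exact ⟨_, rfl⟩
  obtain ⟨q, hq⟩ := (Polynomial.mem_lifts _).mp hlift
  have hqΩ : q.map (algebraMap L Ω) = ∏ g : G, (Polynomial.X - Polynomial.C (ι (g • algebraMap A L x₀))) := by
    rw [hq]
    simp [c₀, MulSemiringAction.charpoly_eq, Polynomial.map_prod]
  have horb : Function.Injective fun g : G => g • algebraMap A L x₀ := fun g g' e => by
    have hs : g'⁻¹ * g ∈ MulAction.stabilizer G (algebraMap A L x₀) := by
      show (g'⁻¹ * g) • _ = _
      rw [mul_smul, show g • algebraMap A L x₀ = g' • algebraMap A L x₀ from e, inv_smul_smul]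
    have : MulAction.stabilizer G (algebraMap A L x₀) = ⊥ := by
      have : Fact (Nat.card G).Prime := ⟨hcard ▸ hp.out⟩
      refine ((MulAction.stabilizer G (algebraMap A L x₀)).eq_bot_or_eq_top_of_prime_card).resolve_right
        fun e => hx₀K fun t => ?_
      exact (show t ∈ MulAction.stabilizer G (algebraMap A L x₀) from e ▸ trivial)
    rw [this, Subgroup.mem_bot] at hs
    exact (inv_mul_eq_one.mp hs).symm
  have hsep : q.Separable := by
    rw [← Polynomial.separable_map (algebraMap L Ω), hqΩ]
    exact Polynomial.separable_prod_X_sub_C_iff.mpr (ι.injective.comp horb)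
  have hq0 : q ≠ 0 := hsep.ne_zero
  have hroots : ∀ z ∈ q.rootSet Ω, ∃ g : G, z = ι (g • algebraMap A L x₀) := fun z hz => by
    have h1 := (Polynomial.mem_rootSet_of_ne hq0).mp hz
    rw [Polynomial.aeval_def, ← Polynomial.eval_map, hqΩ, Polynomial.eval_prod] at h1
    obtain ⟨g, -, hg⟩ := Finset.prod_eq_zero_iff.mp h1
    exact ⟨g, by simpa [sub_eq_zero] using hg⟩
  have hyroot : y ∈ q.rootSet Ω := by
    rw [Polynomial.mem_rootSet_of_ne hq0, Polynomial.aeval_def, ← Polynomial.eval_map, hqΩ,
      Polynomial.eval_prod]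
    exact Finset.prod_eq_zero (Finset.mem_univ 1) (by simp [y])
  have hsplit : q.IsSplittingField L M := by
    rw [IntermediateField.isSplittingField_iff]
    refine ⟨(IntermediateField.splits_of_splits (IsAlgClosed.splits _) fun z hz => ?_), ?_⟩
    · obtain ⟨g, rfl⟩ := hroots z hz
      exact hLM _
    · refine le_antisymm (IntermediateField.adjoin_simple_le_iff.mpr
        (IntermediateField.subset_adjoin L _ hyroot)) (IntermediateField.adjoin_le_iff.mpr fun z hz => ?_)
      obtain ⟨g, rfl⟩ := hroots z hz
      exact hLM _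
  have : FiniteDimensional L M := Polynomial.IsSplittingField.finiteDimensional M q
  have : IsGalois L M := IsGalois.of_separable_splitting_field hsep
  let H := M ≃ₐ[L] M
  have hχ : ∀ τ : H, ∃ g : G, ∀ l : L, τ (ιM l) = ιM (g • l) := fun τ => by
    have h1 : (τ (ιM (algebraMap A L x₀)) : Ω) ∈ q.rootSet Ω := by
      rw [Polynomial.mem_rootSet_of_ne hq0]
      have h2 : Polynomial.aeval (ιM (algebraMap A L x₀)) q = 0 := by
        refine M.val.injective ?_
        show M.val (Polynomial.aeval (ιM (algebraMap A L x₀)) q) = M.val 0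
        rw [← Polynomial.aeval_algHom_apply, map_zero]
        exact (Polynomial.mem_rootSet_of_ne hq0).mp hyroot
      have h3 := Polynomial.aeval_algHom_apply (M.val.comp τ.toAlgHom) (ιM (algebraMap A L x₀)) q
      rw [h2, map_zero] at h3
      exact h3
    obtain ⟨g, hg⟩ := hroots _ h1
    refine ⟨g, fun l => DFunLike.congr_fun (hgen (τ.toAlgHom.toRingHom.comp ιM)
      (ιM.comp (MulSemiringAction.toRingHom G L g)) (fun c => ?_) (Subtype.ext hg)) l⟩
    show τ (ιM c) = ιM (g • (c : L))
    rw [show g • (c : L) = c from c.2 g]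
    have hc : ιM (c : L) = algebraMap L M (φK c) := Subtype.ext (hι c)
    rw [hc, AlgEquiv.commutes]
  choose χ hχ using hχ
  have hadj : ∀ τ τ' : H, τ (ιM (algebraMap A L x₀)) = τ' (ιM (algebraMap A L x₀)) → τ = τ' := by
    intro τ τ' e
    let E : IntermediateField L M := IntermediateField.fixedField (Subgroup.zpowers (τ'⁻¹ * τ))
    have hfixy : (τ'⁻¹ * τ) (ιM (algebraMap A L x₀)) = ιM (algebraMap A L x₀) := by
      show τ'.symm (τ _) = _
      rw [e, AlgEquiv.symm_apply_apply]
    have hAlg : (τ'⁻¹ * τ).toAlgHom = AlgHom.id L M :=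
      IntermediateField.adjoin_algHom_ext L (fun z hz => by
        obtain rfl : z = y := hz
        exact hfixy)
    have h1 : τ'⁻¹ * τ = 1 := AlgEquiv.ext fun z => DFunLike.congr_fun hAlg z
    exact (inv_mul_eq_one.mp h1).symm
  let χH : H →* G :=
    { toFun := χ
      map_one' := horb (ι.injective (congrArg Subtype.val (show ιM (χ 1 • algebraMap A L x₀) =
        ιM ((1 : G) • algebraMap A L x₀) by rw [one_smul, ← hχ]; rfl)))
      map_mul' := fun τ τ' => horb (ι.injective (congrArg Subtype.val
        (show ιM (χ (τ * τ') • algebraMap A L x₀) = ιM ((χ τ * χ τ') • algebraMap A L x₀) by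
          rw [mul_smul, ← hχ, ← hχ, ← hχ]; rfl))) }
  have hχinj : Function.Injective χH := fun τ τ' e => hadj τ τ' (by
    rw [hχ, hχ, show χ τ = χ τ' from e])
  have hM1 : Module.finrank L M ≠ 1 := fun h => by
    have := IntermediateField.finrank_eq_one_iff.mp h
    have hy : y ∈ (⊥ : IntermediateField L Ω) := this ▸ IntermediateField.mem_adjoin_simple_self L y
    rw [IntermediateField.mem_bot] at hy
    exact hx₀ hy
  have hHp : Nat.card H = p := by
    have h1 : Nat.card H ∣ p := hcard ▸ Subgroup.card_dvd_of_injective χH hχinj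
    refine ((Nat.dvd_prime hp.out).mp h1).resolve_left fun h => hM1 ?_
    rw [← h, IsGalois.card_aut_eq_finrank]
  -- the integral closure
  let B := integralClosure A M
  have : IsIntegrallyClosed A := RegLoc6.isIntegrallyClosed_of_isRegularLocalRing A
  have : Algebra.IsSeparable L M := IsGalois.to_isSeparable
  have : Module.Finite A B := IsIntegralClosure.finite A L M B
  have : IsFractionRing B M := integralClosure.isFractionRing_of_finite_extension L M
  have : IsIntegrallyClosed B := integralClosure.isIntegrallyClosedOfFiniteExtension L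
  let : MulSemiringAction H B := IsIntegralClosure.MulSemiringAction A L M B
  have : Algebra.IsInvariant A B H := Algebra.isInvariant_of_isGalois A L M B
  have hact : ∀ (τ : H) (b : B), ((τ • b : B) : M) = τ (b : M) := fun τ b =>
    algebraMap_galRestrict_apply A τ b
  have : FaithfulSMul H B := ⟨fun {τ τ'} e => (galRestrict A L M B).injective (AlgEquiv.ext e)⟩
  have : FaithfulSMul A B := (faithfulSMul_iff_algebraMap_injective A B).mpr fun a a' e => by
    have := congrArg Subtype.val e
    exact IsFractionRing.injective A L ((algebraMap L M).injective this)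
  have hintA : ∀ a : A, IsIntegral A (ιM (algebraMap A L a)) := fun a => by
    have : Algebra.IsInvariant R A G := ⟨fun a ha => ⟨⟨a, ha⟩, rfl⟩⟩
    have : SMulCommClass G R A := ⟨fun g r a => by
      show g • ((r : A) * a) = (r : A) * g • a
      rw [smul_mul', r.2 g]⟩
    obtain ⟨f, hf, hfx⟩ := (Algebra.IsInvariant.isIntegral R A G).isIntegral a
    refine ⟨f.map ((R.val : R →+* A).comp φ.toRingEquiv.toRingHom), hf.map _, ?_⟩
    have := congrArg (fun a => ιM (algebraMap A L a)) hfx
    simp only [map_zero] at this
    rw [Polynomial.hom_eval₂, Polynomial.hom_eval₂] at this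
    rw [Polynomial.eval₂_map]
    refine Eq.trans (congrArg (fun g => Polynomial.eval₂ g _ f) ?_) this
    exact RingHom.ext fun r => Subtype.ext (hιR r).symm
  let ιB : A →+* B := (ιM.comp (algebraMap A L)).codRestrict B.toSubring fun a => hintA a
  have : CharP A p := ‹_›
  have hdm : 1 < (maximalIdeal A).height := by
    have h3 := maximalIdeal_height_eq_ringKrullDim (R := A)
    rw [← h3] at hdim
    exact lt_of_lt_of_le (by norm_num) (WithBot.coe_le_coe.mp hdim)
  have hB1 : ∀ Q : Ideal B, Q.IsPrime → (Q.comap (algebraMap A B)).height ≤ 1 → Q.inertia H = ⊥ := by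
    intro Q hQ hQ1
    rw [Subgroup.eq_bot_iff_forall]
    intro τ hτ
    have hP' : Q.comap ιB ≠ maximalIdeal A := fun e => by
      refine absurd hQ1 (not_le.mpr ?_)
      suffices Q.comap (algebraMap A B) = maximalIdeal A by rwa [this]
      refine le_antisymm (le_maximalIdeal (Ideal.comap_ne_top _ hQ.ne_top)) ?_
      obtain ⟨l, t, htm, htG, e', he'⟩ := exists_fixed_span (A := A) (G := G)
      have : (Q.comap (algebraMap A B)).IsPrime := inferInstance
      refine fun z hz => this.mem_of_pow_mem e' ((Ideal.span_le.mpr ?_) (he' (Ideal.pow_mem_pow hz e')))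
      rintro _ ⟨i, rfl⟩
      let N : R := ⟨t i, fun g => htG g i⟩
      have hNm : (φ.symm N : A) ∈ maximalIdeal A := fun hu => by
        obtain ⟨w, hw⟩ := hu.exists_right_inv
        have hwR : w ∈ R := fun g => hu.mul_left_cancel (by
          calc (φ.symm N : A) * g • w = g • ((φ.symm N : A) * w) := by
                rw [smul_mul', (φ.symm N).2 g]
            _ = (φ.symm N : A) * w := by rw [hw, smul_one])
        have := congrArg φ (show φ.symm N * (⟨w, hwR⟩ : R) = 1 from Subtype.ext hw)
        rw [map_mul, map_one, φ.apply_symm_apply] at this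
        exact htm i (IsUnit.of_mul_eq_one _ (congrArg Subtype.val this))
      have h6 : ιB (φ.symm N : A) ∈ Q := (e ▸ hNm : (φ.symm N : A) ∈ Q.comap ιB)
      have h7 : ιB (φ.symm N : A) = algebraMap A B (t i) := Subtype.ext (Subtype.ext (by
        show ι (algebraMap A L (φ.symm N)) = algebraMap L Ω (algebraMap A L (t i))
        rw [hιR, φ.apply_symm_apply]))
      show algebraMap A B (t i) ∈ Q
      rw [← h7]
      exact h6
    refine hχinj (?_ : χH τ = χH 1)
    rw [map_one]
    refine (Subgroup.eq_bot_iff_forall _).mp (hram _ inferInstance hP') _ fun a => ?_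
    show ιB (χ τ • a - a) ∈ Q
    have h1 : τ • ιB a = ιB (χ τ • a) := Subtype.ext (by
      rw [hact]
      show τ (ιM (algebraMap A L a)) = ιM (algebraMap A L (χ τ • a))
      rw [hχ, hL])
    rw [map_sub, ← h1]
    exact hτ (ιB a)
  have : SMulCommClass H A B := ⟨fun τ a b => Subtype.ext (by
    rw [hact, Algebra.smul_def, Algebra.smul_def]
    show τ (algebraMap A M a * (b : M)) = algebraMap A M a * ((τ • b : B) : M)
    rw [map_mul, hact, IsScalarTower.algebraMap_apply A L M, AlgEquiv.commutes])⟩
  obtain ⟨d, hd⟩ : ∃ d : ℕ, ringKrullDim A = d :=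
    ⟨_, ((isRegularLocalRing_iff A).1 inferInstance).symm⟩
  have hall := inertia_eq_bot_aux p H hHp d A B hd.le hB1
  -- residue extension
  have : HenselianLocalRing A := (Hensel.henselianRing_maximalIdeal_iff A).mp inferInstance
  have : Algebra.IsIntegral A B := Algebra.IsIntegral.of_finite A B
  have : IsLocalRing B := Hensel.isLocalRing_of_isIntegral_domain A B
  let Q := maximalIdeal B
  let F := B ⧸ Q
  let := Ideal.Quotient.field Q
  have : IsLocalHom (algebraMap A B) :=
    (RingHom.IsIntegral.of_finite (RingHom.finite_algebraMap.mpr ‹_›)).isLocalHom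
      (FaithfulSMul.algebraMap_injective A B)
  have hstab : ∀ (τ : H), ∀ b ∈ Q, τ • b ∈ Q := fun τ b hb hu => by
    have := hu.map (MulSemiringAction.toRingHom H B τ⁻¹)
    rw [MulSemiringAction.toRingHom_apply, inv_smul_smul] at this
    exact hb this
  let act : H →* (F ≃+* F) :=
    { toFun := fun τ => Ideal.quotientEquiv Q Q (MulSemiringAction.toRingEquiv H B τ) (by
        refine le_antisymm (fun b hb => ?_) (Ideal.map_le_iff_le_comap.mpr fun b hb => hstab τ b hb)
        have h1 := Ideal.mem_map_of_mem (MulSemiringAction.toRingEquiv H B τ) (hstab τ⁻¹ b hb)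
        rwa [show (MulSemiringAction.toRingEquiv H B τ) (τ⁻¹ • b) = b from smul_inv_smul τ b] at h1)
      map_one' := RingEquiv.ext fun z => by
        obtain ⟨b, rfl⟩ := Ideal.Quotient.mk_surjective z
        show Ideal.Quotient.mk Q ((1 : H) • b) = _
        rw [one_smul]; rfl
      map_mul' := fun τ τ' => RingEquiv.ext fun z => by
        obtain ⟨b, rfl⟩ := Ideal.Quotient.mk_surjective z
        show Ideal.Quotient.mk Q ((τ * τ') • b) = Ideal.Quotient.mk Q (τ • τ' • b)
        rw [mul_smul] }
  let : MulSemiringAction H F := MulSemiringAction.compHom F act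
  have hFact : ∀ (τ : H) (b : B), τ • Ideal.Quotient.mk Q b = Ideal.Quotient.mk Q (τ • b) :=
    fun τ b => rfl
  have : FaithfulSMul H F := ⟨fun {τ τ'} e => by
    have h1 : τ'⁻¹ * τ ∈ Q.inertia H := fun b => by
      have h2 := e (Ideal.Quotient.mk Q b)
      rw [hFact, hFact, Ideal.Quotient.eq] at h2
      have h3 := hstab τ'⁻¹ _ h2
      rwa [smul_sub, inv_smul_smul, ← mul_smul] at h3
    rw [hall Q inferInstance, Subgroup.mem_bot] at h1
    exact (inv_mul_eq_one.mp h1).symm⟩
  let ck : k →+* F := (Ideal.Quotient.mk Q).comp ((algebraMap A B).comp (algebraMap k A))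
  let := Fintype.ofFinite H
  have hck0 : ∀ a : A, ∃ c, ck c = Ideal.Quotient.mk Q (algebraMap A B a) := fun a => by
    obtain ⟨c, hc⟩ := hk (residue A a)
    refine ⟨c, Ideal.Quotient.eq.mpr ?_⟩
    show algebraMap A B (algebraMap k A c) - algebraMap A B a ∈ Q
    rw [← map_sub]
    exact map_nonunit (algebraMap A B) _ ((residue_eq_zero_iff _).mp (by
      rw [map_sub]; exact sub_eq_zero.mpr hc))
  have hck1 : ∀ (c : k) (τ : H), τ • ck c = ck c := fun c τ => by
    show τ • Ideal.Quotient.mk Q (algebraMap A B (algebraMap k A c)) = _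
    rw [hFact, smul_algebraMap]; rfl
  have hck : ∀ z : F, z ∈ FixedPoints.subfield H F → ∃ c, ck c = z := by
    intro z hz
    obtain ⟨r, hr, hδ⟩ := exists_delta (G := H) (maximalIdeal A) fun P hP _ => hall P hP
    obtain ⟨l, x, w, hxy⟩ := exists_dual (r := r) (fun {_} => by convert hδ)
    obtain ⟨b, rfl⟩ := Ideal.Quotient.mk_surjective z
    have hz' : ∀ g : H, Ideal.Quotient.mk Q (g • b) = Ideal.Quotient.mk Q b := fun g =>
      (hFact g b).symm.trans (hz g)
    let t : Fin l → F := fun j => ∑ g : H, Ideal.Quotient.mk Q (g • x j)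
    have ht : ∀ j (b' : B), (∀ g : H, Ideal.Quotient.mk Q (g • b') = Ideal.Quotient.mk Q b') →
        ∃ c, ck c = Ideal.Quotient.mk Q b' * t j := fun j b' hb' => by
      obtain ⟨a, ha⟩ := Algebra.IsInvariant.isInvariant (A := A) (G := H) (∑ g : H, g • (b' * x j))
        fun τ => by
          rw [Finset.smul_sum]
          exact Fintype.sum_equiv (Equiv.mulLeft τ) _ _ fun g => (mul_smul τ g _).symm
      obtain ⟨c, hc⟩ := hck0 a
      refine ⟨c, hc.trans ?_⟩
      rw [ha, map_sum, Finset.mul_sum]
      exact Finset.sum_congr rfl fun g _ => by rw [smul_mul', map_mul, hb']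
    obtain ⟨j, hj⟩ : ∃ j, t j ≠ 0 := by
      by_contra! h0
      have h1 := congrArg (Ideal.Quotient.mk Q) (hxy 1)
      rw [Algebra.smul_def, mul_one, map_sum,
        Finset.sum_eq_zero (fun j _ => by rw [map_mul, map_sum]; simp only [one_mul]; rw [show
          (∑ g : H, Ideal.Quotient.mk Q (g • x j)) = t j from rfl, h0, zero_mul]),
        Ideal.Quotient.eq_zero_iff_mem] at h1
      exact h1 ((by simpa using hr : IsUnit r).map (algebraMap A B))
    obtain ⟨c, hc⟩ := ht j b hz'
    obtain ⟨c', hc'⟩ := ht j 1 (fun g => by rw [smul_one])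
    rw [map_one, one_mul] at hc'
    refine ⟨c / c', ?_⟩
    rw [map_div₀, hc, hc', mul_div_cancel_right₀ _ hj]
  let e : k ≃+* FixedPoints.subfield H F :=
    RingEquiv.ofBijective (ck.codRestrict (FixedPoints.subfield H F) fun c τ => hck1 c τ)
      ⟨fun a b h => ck.injective (congrArg Subtype.val h), fun z => by
        obtain ⟨c, hc⟩ := hck z z.2
        exact ⟨c, Subtype.ext hc⟩⟩
  let : Algebra k F := ck.toAlgebra
  have hGal : IsGalois k F :=
    IsGalois.of_equiv_equiv (F := FixedPoints.subfield H F) (E := F) (f := e.symm)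
      (g := RingEquiv.refl F) (RingHom.ext fun z => by
        show ck (e.symm z) = (z : F)
        exact congrArg Subtype.val (e.apply_symm_apply z))
  have hfr : Module.finrank k F = p := by
    rw [Algebra.finrank_eq_of_equiv_equiv e (RingEquiv.refl F) (RingHom.ext fun c => rfl),
      FixedPoints.finrank_eq_card, ← Nat.card_eq_fintype_card, hHp]
  have : FiniteDimensional k F := Module.finite_of_finrank_pos (hfr ▸ hp.out.pos)
  have : Small.{v} F := by
    let b := Module.finBasis k F
    exact small_of_surjective b.equivFun.symm.surjective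
  have := IsGalois.of_algEquiv (Shrink.algEquiv k F).symm
  refine hkp (Shrink.{v} F) this ?_
  rw [(Shrink.algEquiv k F).toLinearEquiv.finrank_eq, hfr]

end

end Groth.Agent.WQ7

namespace Groth.Agent.WQ7

/-- An endomorphism fixing the invariants of a finite group acting on a domain is bijective. -/
theorem bijective_of_fix {A : Type*} [CommRing A] [IsDomain A] {G : Type*} [Group G] [Finite G]
    [MulSemiringAction G A] (θ : A →+* A) (hθ : ∀ a : A, (∀ g : G, g • a = a) → θ a = a) :
    Function.Bijective θ := by
  classical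
  let := Fintype.ofFinite G
  let O : A → Finset A := fun a => Finset.univ.image fun g : G => g • a
  have hO : ∀ a, ∀ b ∈ O a, θ b ∈ O a := fun a b hb => by
    obtain ⟨g₀, -, rfl⟩ := Finset.mem_image.mp hb
    have h1 : ((MulSemiringAction.charpoly G a).map θ).eval (θ (g₀ • a)) = 0 := by
      rw [Polynomial.eval_map_apply, MulSemiringAction.charpoly_eq, Polynomial.eval_prod,
        Finset.prod_eq_zero (Finset.mem_univ g₀) (by simp), map_zero]
    rw [show (MulSemiringAction.charpoly G a).map θ = MulSemiringAction.charpoly G a from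
      Polynomial.ext fun i => by
        rw [Polynomial.coeff_map, hθ _ fun g => MulSemiringAction.smul_coeff_charpoly a i g],
      MulSemiringAction.charpoly_eq, Polynomial.eval_prod] at h1
    obtain ⟨g, -, hg⟩ := Finset.prod_eq_zero_iff.mp h1
    exact Finset.mem_image.mpr ⟨g, Finset.mem_univ _, by
      rw [Polynomial.eval_sub, Polynomial.eval_X, Polynomial.eval_C] at hg
      exact (sub_eq_zero.mp hg).symm⟩
  have hinj : Function.Injective θ := (injective_iff_map_eq_zero _).mpr fun a ha => by
    have h0 : θ (∏ g : G, g • a) = 0 := by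
      rw [map_prod]
      exact Finset.prod_eq_zero (Finset.mem_univ 1) (by rw [one_smul, ha])
    rw [hθ _ (fun h => by
      rw [Finset.smul_prod']
      exact Fintype.prod_equiv (Equiv.mulLeft h) _ _ fun g => (mul_smul h g a).symm)] at h0
    obtain ⟨g, -, hg⟩ := Finset.prod_eq_zero_iff.mp h0
    rwa [smul_eq_zero_iff_eq] at hg
  refine ⟨hinj, fun a => ?_⟩
  have h2 : (O a).image θ = O a := Finset.eq_of_subset_of_card_le
    (Finset.image_subset_iff.mpr (hO a)) (Finset.card_image_of_injective _ hinj).ge
  have ha : a ∈ O a := Finset.mem_image.mpr ⟨1, Finset.mem_univ _, one_smul _ _⟩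
  rw [← h2] at ha
  obtain ⟨b, -, hb⟩ := Finset.mem_image.mp ha
  exact ⟨b, hb⟩

end Groth.Agent.WQ7
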