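import Mathlib.FieldTheory.Fixed
import Mathlib.RingTheory.Invariant.Basic
import Mathlib.RingTheory.Localization.FractionRing
import Mathlib.RingTheory.RegularLocalRing.Defs
import Mathlib.RingTheory.LocalRing.Module
import Groth.Agent.FlatLoc6.Miracle
import Groth.Agent.CotTLib.CI
import Groth.Agent.RegLoc6.Serre
import Groth.Agent.EGA41Lib.IntDim

/-!
Finite group actions on domains: degrees of rings of invariants, freeness over a regular ring of
invariants (`free_of_regular`).
-/

namespace Groth.Agent.WQ7

universe u v w

open IsLocalRing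

section

variable (R : Type u) [CommRing R] (A : Type v) [CommRing A] [Algebra R A] [Module.Finite R A]

/-- Miracle flatness for a finite injective map of regular local rings. -/
theorem free_of_regular [IsRegularLocalRing R] [IsRegularLocalRing A]
    (hinj : Function.Injective (algebraMap R A)) : Module.Free R A := by
  let R' : Subring A := (algebraMap R A).range
  let e : R ≃+* R' := RingEquiv.ofBijective (algebraMap R A).rangeRestrict
    ⟨fun a b h => hinj (congrArg Subtype.val h), (algebraMap R A).rangeRestrict_surjective⟩
  have : IsRegularLocalRing R' := IsRegularLocalRing.of_ringEquiv e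
  have hc : ∀ r : R, ((e r : R') : A) = algebraMap R A r := fun r => rfl
  have : Module.Finite R' A := by
    obtain ⟨s, hs⟩ := ‹Module.Finite R A›.fg_top
    refine ⟨⟨s, eq_top_iff.mpr ?_⟩⟩
    rintro x -
    have hx : x ∈ Submodule.span R (s : Set A) := hs ▸ Submodule.mem_top
    induction hx using Submodule.span_induction with
    | mem y hy => exact Submodule.subset_span hy
    | zero => exact zero_mem _
    | add a b _ _ ha hb => exact add_mem ha hb
    | smul r a _ ha =>
      rw [Algebra.smul_def, ← hc]
      exact Submodule.smul_mem _ (e r) ha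
  have : Algebra.IsIntegral R' A := Algebra.IsIntegral.of_finite _ _
  have hdim : Module.supportDim A A = ringKrullDim R' +
      Module.supportDim A (A ⧸ FlatLoc6.mN R' A A) := by
    rw [Module.supportDim_self_eq_ringKrullDim,
      EGA41Lib.ringKrullDim_eq_of_integral (A := R') (B := A) Subtype.val_injective]
    let J : Ideal A := (maximalIdeal R').map (algebraMap R' A)
    have hJ : J ≤ maximalIdeal A := map_maximalIdeal_le (algebraMap R' A)
    have : FlatLoc6.mN R' A A = J := by
      rw [FlatLoc6.mN]; simp [J]
    rw [Module.supportDim_eq_of_equiv (Submodule.quotEquivOfEq _ _ this),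
      Module.supportDim_quotient_eq_ringKrullDim]
    have h0 : ringKrullDim (A ⧸ J) = 0 := by
      have : Nontrivial (A ⧸ J) := Ideal.Quotient.nontrivial_iff.mpr
        (fun h => (maximalIdeal.isMaximal A).ne_top (top_le_iff.mp (h ▸ hJ)))
      have : IsLocalRing (A ⧸ J) := .of_surjective' (Ideal.Quotient.mk J) Ideal.Quotient.mk_surjective
      have : J.LiesOver (maximalIdeal R') := by
        constructor
        refine le_antisymm Ideal.le_comap_map ?_
        exact (le_maximalIdeal fun h => (maximalIdeal.isMaximal A).ne_top (top_le_iff.mp (by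
          calc ⊤ = J := ((Ideal.eq_top_iff_one _).mpr (by simpa using
                ((Ideal.eq_top_iff_one _).mp h : (1 : R') ∈ J.comap (algebraMap R' A)))).symm
            _ ≤ _ := hJ)))
      let := Ideal.Quotient.field (maximalIdeal R')
      have : IsArtinianRing (A ⧸ J) := IsArtinianRing.of_finite (R' ⧸ maximalIdeal R') _
      exact ringKrullDimZero_iff_ringKrullDim_eq_zero.mp inferInstance
    rw [h0, add_zero]
  have : Module.Flat R' A := FlatLoc6.flat_of_isCM (CotTLib.isCM_of_isRegularLocalRing A) hdim
  have : Module.Free R' A := Module.free_of_flat_of_isLocalRing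
  let b := Module.Free.chooseBasis R' A
  refine Module.Free.of_basis (b.mapCoeffs e.symm fun c x => ?_)
  rw [Algebra.smul_def, ← hc, e.apply_symm_apply]
  rfl

end

section Degree

variable {R : Type u} [CommRing R] {A : Type v} [CommRing A] [IsDomain A] [Algebra R A]
  [Module.Finite R A] {H : Type w} [Group H] [Finite H] [MulSemiringAction H A] [SMulCommClass H R A]
  [FaithfulSMul H A]

omit [Module.Finite R A] [FaithfulSMul H A] in
/-- Clearing denominators: a fixed fraction of a subgroup is a fixed element over an element of `R`. -/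
theorem exists_eq_div (hfix : ∀ a : A, (∀ h : H, h • a = a) → a ∈ Set.range (algebraMap R A))
    (L : Type v) [Field L] [Algebra A L] [IsFractionRing A L] [MulSemiringAction H L]
    (hL : ∀ (h : H) (a : A), h • algebraMap A L a = algebraMap A L (h • a))
    (N : Subgroup H) (x : L) (hx : ∀ h ∈ N, h • x = x) :
    ∃ (a : A) (r : R), algebraMap R A r ≠ 0 ∧ (∀ h ∈ N, h • a = a) ∧
      algebraMap A L a = x * algebraMap A L (algebraMap R A r) := by
  classical
  let := Fintype.ofFinite H
  obtain ⟨a, b, hb, rfl⟩ := IsFractionRing.div_surjective (A := A) x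
  have hb0 : b ≠ 0 := nonZeroDivisors.ne_zero hb
  obtain ⟨r, hr⟩ := hfix (∏ h : H, h • b) fun g => by
    rw [Finset.smul_prod']
    exact Fintype.prod_equiv (Equiv.mulLeft g) _ _ fun h => (mul_smul g h b).symm
  have hr0 : algebraMap R A r ≠ 0 := by
    rw [hr]
    exact Finset.prod_ne_zero_iff.mpr fun h _ h0 => hb0 ((smul_eq_zero_iff_eq h).mp h0)
  let a' := a * ∏ h ∈ Finset.univ.erase (1 : H), h • b
  have ha' : algebraMap A L a' =
      algebraMap A L a / algebraMap A L b * algebraMap A L (algebraMap R A r) := by
    have h1 : algebraMap R A r = b * ∏ h ∈ Finset.univ.erase (1 : H), h • b := by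
      rw [hr, ← Finset.mul_prod_erase Finset.univ _ (Finset.mem_univ (1 : H)), one_smul]
    rw [h1, map_mul _ b, ← mul_assoc,
      div_mul_cancel₀ _ (IsFractionRing.to_map_ne_zero_of_mem_nonZeroDivisors hb)]
    simp [a']
  refine ⟨a', r, hr0, fun h hh => IsFractionRing.injective A L ?_, ha'⟩
  rw [← hL, ha', smul_mul', hx h hh, hL, smul_algebraMap]

/-- A family spanning up to denominators the invariants of a subgroup `N` has at least `[H:N]` members, and is
linearly independent in case of equality. -/
theorem index_le_card_of_torsion (hinj : Function.Injective (algebraMap R A))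
    (hfix : ∀ a : A, (∀ h : H, h • a = a) → a ∈ Set.range (algebraMap R A))
    (N : Subgroup H) {ι : Type} [Fintype ι] (s : ι → A)
    (hs : ∀ a : A, (∀ h ∈ N, h • a = a) →
      ∃ r : R, algebraMap R A r ≠ 0 ∧ algebraMap R A r * a ∈ Submodule.span R (Set.range s)) :
    N.index ≤ Fintype.card ι ∧ (Fintype.card ι = N.index → LinearIndependent R s) := by
  classical
  let L := FractionRing A
  let : MulSemiringAction H L := IsFractionRing.mulSemiringAction H A L
  have hL : ∀ (h : H) (a : A), h • algebraMap A L a = algebraMap A L (h • a) := fun h a => by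
    simp [Algebra.algebraMap_eq_smul_one, smul_distrib_smul]
  have : FaithfulSMul H L := ⟨fun {g h} e => FaithfulSMul.eq_of_smul_eq_smul (α := A) fun a =>
    IsFractionRing.injective A L (by rw [← hL, ← hL, e])⟩
  let := Fintype.ofFinite H
  let K := FixedPoints.subfield H L
  have hK : ∀ r : R, algebraMap A L (algebraMap R A r) ∈ K := fun r h => by
    show h • algebraMap A L (algebraMap R A r) = algebraMap A L (algebraMap R A r)
    rw [hL, smul_algebraMap]
  let c : R → K := fun r => ⟨_, hK r⟩
  let V := FixedPoints.subfield N L
  have : FaithfulSMul N L := ⟨fun {g h} e => Subtype.ext (FaithfulSMul.eq_of_smul_eq_smul (α := L) e)⟩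
  let W : Submodule K L := Submodule.span K (Set.range fun i => algebraMap A L (s i))
  have hV : ∀ x ∈ V, x ∈ W := fun x hx => by
    obtain ⟨a, r, hr0, ha, e⟩ := exists_eq_div hfix L hL N x fun h hh => hx ⟨h, hh⟩
    have hr1 : algebraMap A L (algebraMap R A r) ≠ 0 :=
      fun h => hr0 (IsFractionRing.injective A L (h.trans (map_zero _).symm))
    have : algebraMap A L a ∈ W := by
      obtain ⟨t, ht0, ht⟩ := hs a ha
      have h' : algebraMap A L (algebraMap R A t * a) ∈ W := by
        clear e ha
        generalize algebraMap R A t * a = z at ht ⊢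
        induction ht using Submodule.span_induction with
        | mem y hy => obtain ⟨i, rfl⟩ := hy; exact Submodule.subset_span ⟨i, rfl⟩
        | zero => rw [map_zero]; exact zero_mem _
        | add a b _ _ ha hb => rw [map_add]; exact add_mem ha hb
        | smul r y _ hy =>
          rw [Algebra.smul_def, map_mul]
          exact W.smul_mem (c r) hy
      have := W.smul_mem (c t)⁻¹ h'
      rwa [map_mul, show (c t)⁻¹ • (algebraMap A L (algebraMap R A t) * algebraMap A L a) =
        (algebraMap A L (algebraMap R A t))⁻¹ * (algebraMap A L (algebraMap R A t) * algebraMap A L a)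
        from rfl, inv_mul_cancel_left₀
          (fun h => ht0 (IsFractionRing.injective A L (h.trans (map_zero _).symm)))] at this
    have hx' : x = (c r)⁻¹ • algebraMap A L a := by
      show x = ((c r)⁻¹ : K) * algebraMap A L a
      show x = (algebraMap A L (algebraMap R A r))⁻¹ * algebraMap A L a
      rw [e, mul_comm, mul_assoc, mul_inv_cancel₀ hr1, mul_one]
    exact hx' ▸ W.smul_mem _ this
  let w := Module.Free.chooseBasis V L
  let := Fintype.ofFinite (Module.Free.ChooseBasisIndex V L)
  let G : ι × Module.Free.ChooseBasisIndex V L → L := fun q => algebraMap A L (s q.1) * w q.2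
  have htop : ⊤ ≤ Submodule.span K (Set.range G) := fun x _ => by
    rw [← w.sum_repr x]
    refine sum_mem fun j _ => ?_
    have : W ≤ (Submodule.span K (Set.range G)).comap (LinearMap.mulRight K (w j)) :=
      Submodule.span_le.mpr (by rintro _ ⟨i, rfl⟩; exact Submodule.subset_span ⟨(i, j), rfl⟩)
    exact this (hV _ (w.repr x j).2)
  have hH : Module.finrank K L = Nat.card H := by
    rw [FixedPoints.finrank_eq_card, Nat.card_eq_fintype_card]
  have hN : Fintype.card (Module.Free.ChooseBasisIndex V L) = Nat.card N := by
    let := Fintype.ofFinite N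
    rw [← Module.finrank_eq_card_chooseBasisIndex, FixedPoints.finrank_eq_card,
      Nat.card_eq_fintype_card]
  have hcard : Module.finrank K L ≤ Fintype.card ι * Nat.card N := by
    have := finrank_le_of_span_eq_top (top_le_iff.mp htop)
    rwa [Fintype.card_prod, hN] at this
  have hNpos : 0 < Nat.card N := Nat.card_pos
  refine ⟨?_, fun he => ?_⟩
  · rw [hH, ← Subgroup.index_mul_card N] at hcard
    exact Nat.le_of_mul_le_mul_right hcard hNpos
  have hG : LinearIndependent K G := linearIndependent_of_top_le_span_of_card_eq_finrank htop (by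
    rw [hH, Fintype.card_prod, hN, he, Subgroup.index_mul_card])
  rw [Fintype.linearIndependent_iff] at hG ⊢
  intro g hg i
  obtain ⟨j₀⟩ : Nonempty (Module.Free.ChooseBasisIndex V L) := w.index_nonempty
  have h0 := hG (fun q => if q.2 = j₀ then c (g q.1) else 0) (by
    rw [Fintype.sum_prod_type]
    simp only [ite_smul, zero_smul, Finset.sum_ite_eq', Finset.mem_univ, if_true]
    have := congrArg (fun a => algebraMap A L a * w j₀) hg
    simp only [map_sum, Finset.sum_mul, map_zero, zero_mul] at this
    refine Eq.trans (Finset.sum_congr rfl fun k _ => ?_) this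
    show algebraMap A L (algebraMap R A (g k)) * (algebraMap A L (s k) * w j₀) = _
    rw [Algebra.smul_def, map_mul, mul_assoc]) (i, j₀)
  simp only [if_true] at h0
  exact hinj (IsFractionRing.injective A L ((congrArg Subtype.val h0).trans (by simp)))

/-- A spanning family of the invariants of a subgroup `N` has at least `[H:N]` members, and is
linearly independent in case of equality. -/
theorem index_le_card (hinj : Function.Injective (algebraMap R A))
    (hfix : ∀ a : A, (∀ h : H, h • a = a) → a ∈ Set.range (algebraMap R A))
    (N : Subgroup H) {ι : Type} [Fintype ι] (s : ι → A)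
    (hs : ∀ a : A, (∀ h ∈ N, h • a = a) → a ∈ Submodule.span R (Set.range s)) :
    N.index ≤ Fintype.card ι ∧ (Fintype.card ι = N.index → LinearIndependent R s) :=
  index_le_card_of_torsion hinj hfix N s fun a ha => ⟨1, by simp, by simpa using hs a ha⟩

/-- An independent family in `A` stays independent over the invariant subfield of a fraction field. -/
theorem linearIndependent_fixed (hinj : Function.Injective (algebraMap R A))
    (hfix : ∀ a : A, (∀ h : H, h • a = a) → a ∈ Set.range (algebraMap R A))
    (L : Type v) [Field L] [Algebra A L] [IsFractionRing A L] [MulSemiringAction H L]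
    (hL : ∀ (h : H) (a : A), h • algebraMap A L a = algebraMap A L (h • a))
    {ι : Type*} [Fintype ι] (b : ι → A) (hb : LinearIndependent R b) :
    LinearIndependent (FixedPoints.subfield H L) (fun i => algebraMap A L (b i)) := by
  classical
  rw [Fintype.linearIndependent_iff] at hb ⊢
  intro k hk i
  choose a r hr ha e using fun j => exists_eq_div hfix L hL ⊤ (k j : L) fun h _ => (k j).2 h
  choose ρ hρ using fun j => hfix (a j) fun h => ha j h trivial
  have h0 := hb (fun j => ρ j * ∏ l ∈ Finset.univ.erase j, r l) (by
    refine IsFractionRing.injective A L ?_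
    rw [map_sum, map_zero]
    have := congrArg (fun x => x * algebraMap A L (algebraMap R A (∏ l, r l))) hk
    simp only [Finset.sum_mul, zero_mul] at this
    refine Eq.trans (Finset.sum_congr rfl fun j _ => ?_) this
    rw [Algebra.smul_def, map_mul, map_mul, map_mul, hρ, e,
      ← Finset.mul_prod_erase Finset.univ r (Finset.mem_univ j), map_mul, map_mul]
    show (k j : L) * _ * _ * _ = (k j : L) * _ * _
    ring) i
  have hρ0 : ρ i = 0 := by
    rcases mul_eq_zero.mp (show algebraMap R A (ρ i) * ∏ l ∈ Finset.univ.erase i,
        algebraMap R A (r l) = 0 by rw [← map_prod, ← map_mul, h0, map_zero]) with h | h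
    · exact hinj (h.trans (map_zero _).symm)
    · exact absurd h (Finset.prod_ne_zero_iff.mpr fun l _ => hr l)
  have := e i
  rw [← hρ, hρ0, map_zero, map_zero] at this
  exact Subtype.ext ((mul_eq_zero.mp this.symm).resolve_right
    fun h => hr i (IsFractionRing.injective A L (h.trans (map_zero _).symm)))

/-- An independent family of invariants of `N` has at most `[H:N]` members. -/
theorem card_le_index (hinj : Function.Injective (algebraMap R A))
    (hfix : ∀ a : A, (∀ h : H, h • a = a) → a ∈ Set.range (algebraMap R A))
    (N : Subgroup H) {ι : Type*} [Fintype ι] (b : ι → A) (hb : LinearIndependent R b)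
    (hN : ∀ i, ∀ h ∈ N, h • b i = b i) : Fintype.card ι ≤ N.index := by
  classical
  let L := FractionRing A
  let : MulSemiringAction H L := IsFractionRing.mulSemiringAction H A L
  have hL : ∀ (h : H) (a : A), h • algebraMap A L a = algebraMap A L (h • a) := fun h a => by
    simp [Algebra.algebraMap_eq_smul_one, smul_distrib_smul]
  have : FaithfulSMul H L := ⟨fun {g h} e => FaithfulSMul.eq_of_smul_eq_smul (α := A) fun a =>
    IsFractionRing.injective A L (by rw [← hL, ← hL, e])⟩
  have : FaithfulSMul N L :=
    ⟨fun {g h} e => Subtype.ext (FaithfulSMul.eq_of_smul_eq_smul (α := L) e)⟩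
  let := Fintype.ofFinite H
  let := Fintype.ofFinite N
  let K := FixedPoints.subfield H L
  let V := FixedPoints.subfield N L
  have hbK := Fintype.linearIndependent_iff.mp (linearIndependent_fixed hinj hfix L hL b hb)
  let w := Module.Free.chooseBasis V L
  let := Fintype.ofFinite (Module.Free.ChooseBasisIndex V L)
  have hG : LinearIndependent K
      (fun q : ι × Module.Free.ChooseBasisIndex V L => algebraMap A L (b q.1) * w q.2) := by
    rw [Fintype.linearIndependent_iff]
    rintro c hc ⟨i, j⟩
    have hv : ∀ j, ∑ i, (c (i, j) : L) * algebraMap A L (b i) ∈ V := fun j g => by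
      show (g : H) • (∑ i, (c (i, j) : L) * algebraMap A L (b i)) = _
      rw [Finset.smul_sum]
      refine Finset.sum_congr rfl fun i _ => ?_
      rw [smul_mul', hL, hN i g g.2, show (g : H) • (c (i, j) : L) = c (i, j) from (c (i, j)).2 g]
    have h1 := Fintype.linearIndependent_iff.mp w.linearIndependent (fun j => ⟨_, hv j⟩) (by
      rw [Fintype.sum_prod_type, Finset.sum_comm] at hc
      refine Eq.trans (Finset.sum_congr rfl fun j _ => ?_) hc
      show (∑ i, (c (i, j) : L) * algebraMap A L (b i)) * w j = _
      rw [Finset.sum_mul]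
      exact Finset.sum_congr rfl fun i _ => mul_assoc _ _ _) j
    exact hbK (fun i => c (i, j)) (congrArg Subtype.val h1) i
  have h := hG.fintype_card_le_finrank
  rw [Fintype.card_prod, ← Module.finrank_eq_card_chooseBasisIndex, FixedPoints.finrank_eq_card,
    FixedPoints.finrank_eq_card, ← Nat.card_eq_fintype_card (α := N),
    ← Nat.card_eq_fintype_card (α := H), ← N.index_mul_card] at h
  exact Nat.le_of_mul_le_mul_right h Nat.card_pos

/-- An independent family in `A` has at most `|H|` members. -/
theorem card_le_of_linearIndependent (hinj : Function.Injective (algebraMap R A))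
    (hfix : ∀ a : A, (∀ h : H, h • a = a) → a ∈ Set.range (algebraMap R A))
    {ι : Type*} [Fintype ι] (b : ι → A) (hb : LinearIndependent R b) :
    Fintype.card ι ≤ Nat.card H := by
  have := card_le_index hinj hfix ⊥ b hb fun i h hh => by rw [Subgroup.mem_bot.mp hh, one_smul]
  rwa [Subgroup.index_bot] at this

/-- In a commutative group, a join of `m` subgroups of order `p` has at most `p ^ m` elements. -/
theorem card_biSup_le {G : Type w} [Group G] [Finite G] (hcomm : ∀ g h : G, g * h = h * g)
    {ι : Type*} (p : ℕ) (Gi : ι → Subgroup G) (hGi : ∀ i, Nat.card (Gi i) = p) (t : Finset ι) :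
    Nat.card ↥(⨆ j ∈ t, Gi j : Subgroup G) ≤ p ^ t.card := by
  classical
  induction t using Finset.induction with
  | empty => simp
  | insert a t ha ih =>
    rw [Finset.iSup_insert, Finset.card_insert_of_notMem ha, pow_succ']
    set T : Subgroup G := ⨆ j ∈ t, Gi j
    have : T.Normal := ⟨fun n hn g => by rwa [hcomm g n, mul_assoc, mul_inv_cancel, mul_one]⟩
    have hsurj : Function.Surjective fun q : Gi a × T =>
        (⟨q.1 * q.2, mul_mem (Subgroup.mem_sup_left q.1.2) (Subgroup.mem_sup_right q.2.2)⟩ :
          ↥(Gi a ⊔ T : Subgroup G)) := fun ⟨x, hx⟩ => by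
      obtain ⟨y, hy, z, hz, rfl⟩ := Subgroup.mem_sup_of_normal_right.mp hx
      exact ⟨(⟨y, hy⟩, ⟨z, hz⟩), rfl⟩
    calc _ ≤ Nat.card (Gi a × T) := Nat.card_le_card_of_surjective _ hsurj
      _ ≤ p * p ^ t.card := by rw [Nat.card_prod, hGi]; exact Nat.mul_le_mul_left _ ih

end Degree

end Groth.Agent.WQ7
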