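import Groth.Agent.WQ7.Complete
import Groth.Agent.WQ7.Basic
import Groth.Agent.PSLib.Regular
import Groth.Agent.RegLoc6.Basic
import Groth.Agent.TFCurvLib.ExtOne
import Mathlib

/-!
Parameter power series in a complete regular local ring with coefficient field: finite, free, rank = colength.
-/

set_option maxHeartbeats 1000000

namespace Groth.Agent.WQ7

universe u v

open IsLocalRing

variable {A : Type u} [CommRing A] [IsRegularLocalRing A] [IsAdicComplete (maximalIdeal A) A]
  {k : Type v} [Field k] [Algebra k A] {n : ℕ}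

theorem params_finite (hk : Function.Surjective (residue A ∘ algebraMap k A)) (x : Fin n → A)
    (hx : (Ideal.span (Set.range x)).radical = maximalIdeal A)
    (φ : MvPowerSeries (Fin n) k →ₐ[k] A) (hφ : ∀ i, φ (MvPowerSeries.X i) = x i) :
    φ.toRingHom.Finite := by
  classical
  let S := MvPowerSeries (Fin n) k
  let : Algebra S A := φ.toRingHom.toAlgebra
  have : IsScalarTower k S A := .of_algebraMap_eq fun c => (φ.commutes c).symm
  have hvars : (PSLib.vars n k).map (algebraMap S A) = Ideal.span (Set.range x) := by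
    rw [PSLib.vars, Ideal.map_span, ← Set.range_comp]
    exact congrArg (fun f => Ideal.span (Set.range f)) (funext hφ)
  have hJm : (PSLib.vars n k).map (algebraMap S A) ≤ maximalIdeal A :=
    hvars.le.trans (hx ▸ Ideal.le_radical)
  have hH : IsHausdorff ((PSLib.vars n k).map (algebraMap S A)) A :=
    IsHausdorff.of_le_jacobson _ _ (hJm.trans (maximalIdeal_le_jacobson _))
  have : IsHausdorff (PSLib.vars n k) A := IsHausdorff.map_algebraMap_iff.mp hH
  obtain ⟨e, he⟩ := Ideal.exists_pow_le_of_le_radical_of_fg_radical hx.ge (IsNoetherian.noetherian _)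
  obtain ⟨V, hV⟩ := exists_fg_sup_pow (k := k) hk e
  let f : (V → S) →ₗ[S] A := Fintype.linearCombination S (fun v : V => (v : A))
  have : IsPrecomplete (PSLib.vars n k) (V → S) :=
    (AdicLib.isAdicComplete_of_finite (PSLib.vars n k) (V → S)).toIsPrecomplete
  have hf : Function.Surjective f := by
    refine surjective_of_mkQ_comp_surjective (I := PSLib.vars n k) fun z => ?_
    obtain ⟨a, rfl⟩ := Submodule.mkQ_surjective _ z
    obtain ⟨v, hv, hav⟩ := hV a
    have hvr : v ∈ LinearMap.range f := by
      have hle : Submodule.span k (V : Set A) ≤ (LinearMap.range f).restrictScalars k :=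
        Submodule.span_le.mpr fun x hx => by
          refine ⟨Pi.single ⟨x, hx⟩ 1, ?_⟩
          simp [f, Fintype.linearCombination_apply, Pi.single_apply, ite_smul]
      exact hle hv
    obtain ⟨c, rfl⟩ := hvr
    refine ⟨c, ?_⟩
    symm
    rw [LinearMap.comp_apply, Submodule.mkQ_apply, Submodule.mkQ_apply, Submodule.Quotient.eq,
      Ideal.smul_top_eq_map]
    exact hvars.symm ▸ he hav
  exact Module.Finite.of_surjective f hf

theorem params_injective (hk : Function.Surjective (residue A ∘ algebraMap k A)) (hn : ringKrullDim A = n)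
    (x : Fin n → A) (hx : (Ideal.span (Set.range x)).radical = maximalIdeal A)
    (φ : MvPowerSeries (Fin n) k →ₐ[k] A) (hφ : ∀ i, φ (MvPowerSeries.X i) = x i) :
    Function.Injective φ := by
  rw [injective_iff_map_eq_zero]
  intro r hr
  by_contra hr0
  let S := MvPowerSeries (Fin n) k
  let J : Ideal S := Ideal.span {r}
  let g : S ⧸ J →+* A := Ideal.Quotient.lift J φ.toRingHom fun a ha => by
    obtain ⟨c, rfl⟩ := Ideal.mem_span_singleton.1 ha
    show φ (r * c) = 0
    rw [map_mul, hr, zero_mul]
  let : Algebra (S ⧸ J) A := g.toAlgebra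
  have hfin : g.Finite := RingHom.Finite.of_comp_finite (f := Ideal.Quotient.mk J) (g := g)
    (by rw [Ideal.Quotient.lift_comp_mk]; exact params_finite hk x hx φ hφ)
  have : Module.Finite (S ⧸ J) A := hfin
  have : Algebra.IsIntegral (S ⧸ J) A := Algebra.IsIntegral.of_finite _ _
  have h1 : ringKrullDim A ≤ ringKrullDim (S ⧸ J) := EGA41Lib.ringKrullDim_le_of_integral
  have hunit : r ∈ maximalIdeal S := by
    rw [mem_maximalIdeal, mem_nonunits_iff]
    intro hu
    exact not_isUnit_zero (hr ▸ hu.map φ.toRingHom : IsUnit (0 : A))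
  have hreg : IsSMulRegular S r := fun a b h => mul_left_cancel₀ hr0 h
  have h2 := ringKrullDim_quotient_span_singleton_succ_eq_ringKrullDim hreg hunit
  rw [PSLib.ringKrullDim_eq] at h2
  rw [hn] at h1
  have h3 : (n : WithBot ℕ∞) + 1 ≤ n := by
    calc (n : WithBot ℕ∞) + 1 ≤ ringKrullDim (S ⧸ J) + 1 := add_le_add h1 le_rfl
      _ = n := h2
  rw [show ((n : WithBot ℕ∞) + 1) = ((n + 1 : ℕ) : WithBot ℕ∞) by push_cast; rfl, Nat.cast_le] at h3
  omega

theorem params_basis (hk : Function.Surjective (residue A ∘ algebraMap k A)) (hn : ringKrullDim A = n)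
    (x : Fin n → A) (hx : (Ideal.span (Set.range x)).radical = maximalIdeal A)
    (φ : MvPowerSeries (Fin n) k →ₐ[k] A) (hφ : ∀ i, φ (MvPowerSeries.X i) = x i) :
    ∃ (d : ℕ) (b : Fin d → A), (d : ℕ∞) = Module.length A (A ⧸ Ideal.span (Set.range x)) ∧
      Function.Bijective (fun r : Fin d → MvPowerSeries (Fin n) k => ∑ i, φ (r i) * b i) := by
  classical
  let S := MvPowerSeries (Fin n) k
  let : Algebra S A := φ.toRingHom.toAlgebra
  have : IsScalarTower k S A := .of_algebraMap_eq fun c => (φ.commutes c).symm
  have : Module.Finite S A := params_finite hk x hx φ hφ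
  have := PSLib.isRegularLocalRing k n
  have : Module.Free S A := free_of_regular (R := S) (A := A) (params_injective hk hn x hx φ hφ)
  obtain ⟨d, ⟨b⟩⟩ : ∃ d, Nonempty (Module.Basis (Fin d) S A) :=
    ⟨_, ⟨(Module.Free.chooseBasis S A).reindex (Fintype.equivFin _)⟩⟩
  refine ⟨d, b, ?_, ?_⟩
  swap
  · have h := b.equivFun.symm.bijective
    convert h using 1
    funext r
    rw [Module.Basis.equivFun_symm_apply]
    exact Finset.sum_congr rfl fun i _ => (Algebra.smul_def (r i) (b i)).symm
  set J : Ideal A := Ideal.span (Set.range x)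
  have hvars : (PSLib.vars n k).map (algebraMap S A) = J := by
    rw [PSLib.vars, Ideal.map_span, ← Set.range_comp]
    exact congrArg (fun f => Ideal.span (Set.range f)) (funext hφ)
  let f : (Fin d → k) →ₗ[k] A ⧸ J := Fintype.linearCombination k fun i => Ideal.Quotient.mk J (b i)
  have hf : ∀ c : Fin d → k, f c = Ideal.Quotient.mk J (∑ i, (algebraMap k S (c i)) • b i) := fun c => by
    simp only [f, Fintype.linearCombination_apply, map_sum, algebraMap_smul]
    exact Finset.sum_congr rfl fun i _ => (map_smul (Ideal.Quotient.mkₐ k J) (c i) (b i)).symm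
  have hmem : ∀ a ∈ J, ∀ i, b.repr a i ∈ PSLib.vars n k := by
    intro a ha
    rw [← hvars] at ha
    have ha' : a ∈ PSLib.vars n k • (⊤ : Submodule S A) := by rwa [Ideal.smul_top_eq_map]
    refine Submodule.smul_induction_on ha' (fun r hr z _ i => ?_) (fun y z hy hz i => ?_)
    · simpa using Ideal.mul_mem_right _ _ hr
    · rw [map_add]; exact add_mem (hy i) (hz i)
  have hcc : ∀ c : k, MvPowerSeries.constantCoeff (algebraMap k (MvPowerSeries (Fin n) k) c) = c := fun c => by
    rw [MvPowerSeries.algebraMap_apply]; simp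
  have hbij : Function.Bijective f := by
    refine ⟨?_, fun z => ?_⟩
    · rw [injective_iff_map_eq_zero]
      intro c hc
      rw [hf, Ideal.Quotient.eq_zero_iff_mem] at hc
      funext i
      have := hmem _ hc i
      rw [map_sum, Finsupp.finset_sum_apply] at this
      simp only [map_smul, Module.Basis.repr_self, Finsupp.smul_apply, Finsupp.single_apply, smul_eq_mul,
        mul_ite, mul_one, mul_zero, Finset.sum_ite_eq', Finset.mem_univ, if_true] at this
      rw [PSLib.mem_vars_iff] at this
      exact (hcc (c i)).symm.trans this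
    · obtain ⟨a, rfl⟩ := Ideal.Quotient.mk_surjective z
      refine ⟨fun i => MvPowerSeries.constantCoeff (b.repr a i), ?_⟩
      rw [hf, Ideal.Quotient.eq]
      suffices h : ∑ i, (algebraMap k S (MvPowerSeries.constantCoeff (b.repr a i)) - b.repr a i) • b i ∈ J by
        simpa only [sub_smul, Finset.sum_sub_distrib, b.sum_repr] using h
      refine sum_mem fun i _ => ?_
      rw [Algebra.smul_def, ← hvars]
      refine Ideal.mul_mem_right _ _ (Ideal.mem_map_of_mem _ ?_)
      rw [PSLib.mem_vars_iff, map_sub, hcc, sub_self]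
  let e := LinearEquiv.ofBijective f hbij
  have : Module.Finite k (A ⧸ J) := Module.Finite.equiv e
  let ρ : k ≃+* ResidueField A := RingEquiv.ofBijective ((residue A).comp (algebraMap k A)) ⟨RingHom.injective _, hk⟩
  let χ : A →ₐ[k] k :=
    { ρ.symm.toRingHom.comp (residue A) with commutes' := fun c => ρ.symm_apply_apply c }
  have hχ : ∀ a, χ a ≠ 0 → IsUnit a := fun a ha => by
    by_contra hu
    apply ha
    show ρ.symm (residue A a) = 0
    rw [(residue_eq_zero_iff a).mpr ((mem_maximalIdeal a).mpr hu), map_zero]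
  rw [TFCurvLib.length_eq_finrank χ hχ (A ⧸ J), ← e.finrank_eq, Module.finrank_fin_fun]

end Groth.Agent.WQ7
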