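import Groth.Agent.WQ7.Free
import Groth.Agent.Pi1Ext.BranchAlg
import Groth.Agent.EGA41Lib.IntDim
import Mathlib

/-! Purity for finite group actions: a totally ramified quotient unramified in codimension one is trivial. -/

set_option autoImplicit false
universe u v w

namespace Groth.Agent.WQ7

open IsLocalRing

open scoped Classical in
/-- A delta function near `q` forces unramifiedness at every prime avoiding `r`. -/
theorem isUnramifiedAt_of_delta {R S : Type u} [CommRing R] [CommRing S] [Algebra R S] {G : Type w} [Group G] [Finite G]
    [MulSemiringAction G S] [SMulCommClass G R S] [Algebra.IsInvariant R S G]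
    (t : Ideal S) [t.IsPrime] {r : R} (hr : algebraMap R S r ∉ t)
    (h : Pi.single (1 : G) (algebraMap R S r) ∈ orbitSpan (H := G) (⊤ : Subalgebra R S)) :
    Algebra.IsUnramifiedAt R t := by
  classical
  let := Fintype.ofFinite G
  obtain ⟨l, x, f, hsum⟩ := Submodule.mem_span_set'.mp h
  choose y hy using fun k => (f k).2
  have hval : ∀ g : G, ∑ k, x k * (g • (y k : S)) = if g = 1 then algebraMap R S r else 0 := fun g => by
    have := congrFun hsum g
    simp only [Finset.sum_apply, Pi.smul_apply, smul_eq_mul] at this
    rw [Pi.single_apply] at this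
    rw [← this]
    exact Finset.sum_congr rfl fun k _ => by rw [← hy k]
  have hdual : ∀ v : S, r • v = ∑ k, (∑ g : G, g • (v * x k)) * (y k : S) := fun v => by
    have e : ∀ k, (∑ g : G, g • (v * x k)) * (y k : S) = ∑ g : G, (g • v) * (g • (x k * g⁻¹ • (y k : S))) := fun k => by
      rw [Finset.sum_mul]
      exact Finset.sum_congr rfl fun g _ => by simp [smul_mul', mul_assoc]
    rw [Finset.sum_congr rfl fun k _ => e k, Finset.sum_comm]
    simp only [← Finset.mul_sum, ← Finset.smul_sum, hval]
    rw [Finset.sum_eq_single (1 : G) (fun g _ hg => by simp [hg]) (fun h => absurd (Finset.mem_univ _) h)]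
    simp [Algebra.smul_def, mul_comm]
  let L := Localization.AtPrime t
  let ι : S →ₐ[R] L := IsScalarTower.toAlgHom R S L
  let D := (KaehlerDifferential.D R L)
  have hD : ∀ v : S, algebraMap R L r • D (ι v) = ∑ k, ι (∑ g : G, g • (v * x k)) • D (ι (y k : S)) := fun v => by
    rw [algebraMap_smul, ← D.map_smul, ← map_smul ι, hdual, map_sum, map_sum]
    refine Finset.sum_congr rfl fun k _ => ?_
    obtain ⟨c, hc⟩ := Algebra.IsInvariant.isInvariant (A := R) (G := G) (∑ g : G, g • (v * x k)) fun σ => by
      rw [Finset.smul_sum]
      exact Fintype.sum_equiv (Equiv.mulLeft σ) _ _ fun g => (mul_smul σ g _).symm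
    rw [← hc, ι.commutes, ← Algebra.smul_def, map_smul ι, D.map_smul, algebraMap_smul]
  have hzero : ∀ a : S, D (ι a) = 0 := fun a => by
    have h1 : ∑ k, ι (x k) • (algebraMap R L r • D (ι (a * y k))) =
        ∑ k, ι (a * x k) • (algebraMap R L r • D (ι (y k : S))) := by
      calc ∑ k, ι (x k) • (algebraMap R L r • D (ι (a * y k)))
          = ∑ k, ∑ j, ι (x k * ∑ g : G, g • (a * y k * x j)) • D (ι (y j : S)) := by
            refine Finset.sum_congr rfl fun k _ => ?_
            rw [hD, Finset.smul_sum]
            exact Finset.sum_congr rfl fun j _ => by rw [smul_smul, ← map_mul]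
        _ = ∑ j, ι (∑ k, x k * ∑ g : G, g • (a * y k * x j)) • D (ι (y j : S)) := by
            rw [Finset.sum_comm]
            exact Finset.sum_congr rfl fun j _ => by rw [← Finset.sum_smul, map_sum]
        _ = _ := Finset.sum_congr rfl fun j _ => by
            have e : ∑ k, x k * ∑ g : G, g • (a * y k * x j) = algebraMap R S r * (a * x j) := by
              have e1 : ∀ k, x k * ∑ g : G, g • (a * y k * x j) = ∑ g : G, (g • (a * x j)) * (x k * g • (y k : S)) := fun k => by
                rw [Finset.mul_sum]
                exact Finset.sum_congr rfl fun g _ => by simp only [smul_mul']; ring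
              rw [Finset.sum_congr rfl fun k _ => e1 k, Finset.sum_comm]
              simp only [← Finset.mul_sum, hval]
              rw [Finset.sum_eq_single (1 : G) (fun g _ hg => by simp [hg]) (fun h => absurd (Finset.mem_univ _) h)]
              simp [mul_comm]
            rw [e, map_mul ι, ι.commutes, smul_smul, mul_comm]
    have h2 : ∑ k, ι (x k) • (algebraMap R L r • D (ι (a * y k))) =
        (∑ k, ι (a * x k) • (algebraMap R L r • D (ι (y k : S)))) +
          (algebraMap R L r * algebraMap R L r) • D (ι a) := by
      have e : ι (∑ k, x k * (y k : S)) = algebraMap R L r := by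
        have := hval 1
        simp only [one_smul, if_true] at this
        rw [this, ι.commutes]
      rw [mul_smul]
      conv_rhs => enter [2, 1]; rw [← e]
      rw [map_sum, Finset.sum_smul, ← Finset.sum_add_distrib]
      refine Finset.sum_congr rfl fun k _ => ?_
      simp only [map_mul, D.leibniz, smul_add, smul_smul]
      congr 2 <;> ring
    have h3 : (algebraMap R L r * algebraMap R L r) • D (ι a) = 0 := by simpa using h2.symm.trans h1
    have hu : IsUnit (algebraMap R L r) := by
      rw [IsScalarTower.algebraMap_apply R S L]
      exact IsLocalization.map_units L (⟨_, hr⟩ : t.primeCompl)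
    exact (hu.mul hu).smul_eq_zero.1 h3
  show Algebra.FormallyUnramified R L
  refine (Algebra.formallyUnramified_iff R L).2 (subsingleton_of_forall_eq 0 fun w => ?_)
  have hw : w ∈ (⊤ : Submodule L _) := trivial
  rw [← KaehlerDifferential.span_range_derivation R L] at hw
  induction hw using Submodule.span_induction with
  | mem z hz =>
    obtain ⟨z, rfl⟩ := hz
    obtain ⟨b, s, rfl⟩ := IsLocalization.exists_mk'_eq t.primeCompl z
    have := congrArg D (IsLocalization.mk'_spec L b s)
    rw [D.leibniz, show algebraMap S L (s : S) = ι (s : S) from rfl, show algebraMap S L b = ι b from rfl,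
      hzero, hzero, smul_zero, zero_add] at this
    exact (IsLocalization.map_units L s).smul_eq_zero.1 this
  | zero => rfl
  | add a b _ _ ha hb => rw [ha, hb, add_zero]
  | smul c a _ ha => rw [ha, smul_zero]

/-- A totally ramified normal finite extension of a regular local ring unramified in codimension one is trivial. -/
theorem surjective_of_unramified_codimOne {R S : Type u} [CommRing R] [IsRegularLocalRing R] [CommRing S] [IsDomain S]
    [IsIntegrallyClosed S] [IsLocalRing S] [Algebra R S] [Module.Finite R S]
    (hinj : Function.Injective (algebraMap R S))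
    (hres : Function.Surjective (residue S ∘ algebraMap R S))
    (hunr : ∀ (t : Ideal S) (_ : t.IsPrime), t.height = 1 → Algebra.IsUnramifiedAt R t) :
    Function.Surjective (algebraMap R S) := by
  have hmap : (maximalIdeal R).map (algebraMap R S) = maximalIdeal S := by
    haveI : IsDomain R := hinj.isDomain _
    by_cases h0 : maximalIdeal R = ⊥
    · have hF : IsField R := (isField_iff_maximalIdeal_eq).2 h0
      haveI : Algebra.IsIntegral R S := Algebra.IsIntegral.of_finite R S
      have hS : IsField S := isField_of_isIntegral_of_isField' hF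
      rw [h0, Ideal.map_bot, (isField_iff_maximalIdeal_eq).1 hS]
    · let m := maximalIdeal S
      let e : S ≃ₐ[S] Localization.AtPrime m :=
        IsLocalization.atUnits S m.primeCompl (fun s hs => IsLocalRing.notMem_maximalIdeal.1 hs)
      haveI : IsDomain (Localization.AtPrime m) := e.symm.toMulEquiv.isDomain S
      haveI : IsIntegrallyClosed (Localization.AtPrime m) := IsIntegrallyClosed.of_equiv e.toRingEquiv
      haveI : Algebra.IsIntegral R S := Algebra.IsIntegral.of_finite R S
      have hdim : ringKrullDim (Localization.AtPrime m) = ringKrullDim R :=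
        (ringKrullDim_eq_of_ringEquiv e.toRingEquiv).symm.trans (Groth.Agent.EGA41Lib.ringKrullDim_eq_of_integral hinj)
      have h1 : (1 : WithBot ℕ∞) ≤ ringKrullDim (Localization.AtPrime m) := by
        rw [hdim, ← IsLocalRing.maximalIdeal_height_eq_ringKrullDim]
        refine WithBot.coe_le_coe.2 ?_
        exact Order.one_le_iff_pos.mpr (pos_iff_ne_zero.mpr fun e => h0 (Ideal.height_eq_zero_iff_eq_bot.mp e))
      have het := Pi1Ext.BranchAlg.isEtaleAt_local (A := R) m hdim h1 (fun t ht _ hh => hunr t ht hh)
      haveI : Algebra.FormallyEtale R (Localization.AtPrime m) := het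
      haveI : Algebra.FormallyUnramified R S :=
        Algebra.FormallyUnramified.of_equiv (e.restrictScalars R).symm
      haveI : IsLocalHom (algebraMap R S) := (algebraMap_isIntegral_iff.2 (Algebra.IsIntegral.of_finite R S)).isLocalHom hinj
      exact Algebra.FormallyUnramified.map_maximalIdeal
  refine (LinearMap.range_eq_top (f := Algebra.linearMap R S)).1 (top_le_iff.1 ?_)
  refine Submodule.le_of_le_smul_of_le_jacobson_bot (I := maximalIdeal R) Module.Finite.fg_top
    (IsLocalRing.maximalIdeal_le_jacobson _) fun s _ => ?_
  obtain ⟨r, hr⟩ := hres (residue S s)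
  have h : s - algebraMap R S r ∈ (maximalIdeal R).map (algebraMap R S) := by
    rw [hmap, ← residue_eq_zero_iff, map_sub, sub_eq_zero]
    exact hr.symm
  refine Submodule.mem_sup.2 ⟨algebraMap R S r, ⟨r, rfl⟩, s - algebraMap R S r, ?_, by ring⟩
  rw [Ideal.smul_top_eq_map]
  exact h

end Groth.Agent.WQ7
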