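import Groth.Agent.WQ7.Galois
import Mathlib.LinearAlgebra.LinearIndependent.Lemmas

/-!
Galois criterion for a finite group action: local delta functions, purity for free extensions.
-/

namespace Groth.Agent.WQ7

universe u v w

open scoped Pointwise

section

variable {R : Type u} [CommRing R] {A : Type v} [CommRing A] [Algebra R A]
  {G : Type w} [Group G] [Finite G] [MulSemiringAction G A]

open scoped Classical in
/-- Near a prime of the base with trivial inertia above, the delta function is a combination of orbit maps. -/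
theorem exists_delta [Algebra.IsIntegral R A] (q : Ideal R) [q.IsPrime]
    (h : ∀ Q : Ideal A, Q.IsPrime → Q.comap (algebraMap R A) = q → Q.inertia G = ⊥) :
    ∃ r ∉ q, Pi.single (1 : G) (algebraMap R A r) ∈ orbitSpan (H := G) (⊤ : Subalgebra R A) := by
  let := Fintype.ofFinite G
  have hsep : ∀ g : G, g ≠ 1 → ∃ r ∉ q,
      algebraMap R A r ∈ Ideal.span ((fun y => y - g • y) '' (Set.univ : Set A)) := by
    intro g hg
    by_contra! hcon
    obtain ⟨Q, hle, hQ, hQq⟩ := Ideal.exists_ideal_over_prime_of_isIntegral q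
      (Ideal.span ((fun y => y - g • y) '' (Set.univ : Set A)))
      fun r hr => by_contra fun hrq => hcon r hrq hr
    refine hg (Subgroup.eq_bot_iff_forall _ |>.mp (h Q hQ hQq) g fun y => ?_)
    have := hle (Ideal.subset_span ⟨y, trivial, rfl⟩)
    simpa using neg_mem this
  have hind : ∀ t : Finset G, (1 : G) ∉ t → ∃ r ∉ q, ∃ f ∈ orbitSpan (H := G) (⊤ : Subalgebra R A),
      f 1 = algebraMap R A r ∧ ∀ g ∈ t, f g = 0 := by
    intro t ht
    induction t using Finset.induction with
    | empty => exact ⟨1, fun hm => ‹q.IsPrime›.ne_top ((Ideal.eq_top_iff_one q).mpr hm), 1,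
        one_mem_orbitSpan _, by simp, by simp⟩
    | insert g t _ ih =>
      obtain ⟨r, hr, f, hf, hf1, hf0⟩ := ih fun hm => ht (Finset.mem_insert_of_mem hm)
      obtain ⟨r', hr', hmem⟩ := hsep g fun e => ht (e ▸ Finset.mem_insert_self g t)
      obtain ⟨f', hf', hf1', hf0'⟩ := exists_separating (⊤ : Subalgebra R A) g Set.univ
        (fun _ _ => Algebra.mem_top) _ hmem
      refine ⟨r * r', fun hm => (‹q.IsPrime›.mem_or_mem hm).elim hr hr', f * f',
        mul_mem_orbitSpan _ hf hf', by simp [hf1, hf1'], fun x hx => ?_⟩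
      rcases Finset.mem_insert.mp hx with rfl | hx
      · simp [hf0']
      · simp [hf0 x hx]
  obtain ⟨r, hr, f, hf, hf1, hf0⟩ := hind (Finset.univ.erase 1) (Finset.notMem_erase _ _)
  refine ⟨r, hr, ?_⟩
  convert hf using 1
  funext g
  by_cases hg : g = 1
  · subst hg; rw [Pi.single_eq_same, hf1]
  · rw [Pi.single_eq_of_ne hg, hf0 g (Finset.mem_erase.mpr ⟨hg, Finset.mem_univ g⟩)]

open scoped Classical in
/-- A global delta function forces trivial inertia everywhere. -/
theorem inertia_eq_bot_of_delta
    (h : Pi.single (1 : G) (1 : A) ∈ orbitSpan (H := G) (⊤ : Subalgebra R A))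
    (Q : Ideal A) (hQ : Q ≠ ⊤) : Q.inertia G = ⊥ := by
  rw [Subgroup.eq_bot_iff_forall]
  intro g hg
  by_contra hne
  have : ∀ f ∈ orbitSpan (H := G) (⊤ : Subalgebra R A), f g - f 1 ∈ Q := by
    intro f hf
    induction hf using Submodule.span_induction with
    | mem f hf => obtain ⟨y, rfl⟩ := hf; simpa using hg (y : A)
    | zero => simp
    | add x y _ _ hx hy => simpa [add_sub_add_comm] using add_mem hx hy
    | smul c x _ hx => simpa [mul_sub] using Q.mul_mem_left c hx
  have := this _ h
  rw [Pi.single_eq_of_ne hne, Pi.single_eq_same, zero_sub, Ideal.neg_mem_iff] at this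
  exact hQ ((Ideal.eq_top_iff_one Q).mpr this)

theorem eq_zero_of_sum_orbit [IsDomain A] [SMulCommClass G R A] [FaithfulSMul G A]
    (hfix : ∀ a : A, (∀ g : G, g • a = a) → a ∈ Set.range (algebraMap R A))
    {ι : Type*} [Fintype ι] (b : Module.Basis ι R A) (c : ι → A)
    (hc : ∀ g : G, ∑ i, c i * (g • b i) = 0) : c = 0 := by
  classical
  let := Fintype.ofFinite G
  have h1 : ∀ g : G, ∑ i, (g • c i) * b i = 0 := fun g => by
    have := congrArg (g • ·) (hc g⁻¹)
    simpa [Finset.smul_sum, smul_mul'] using this
  funext i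
  by_contra hi
  have htr : ∀ z : A, ∑ g : G, g • (z * c i) = 0 := by
    intro z
    choose t ht using fun j => hfix (∑ g : G, g • (z * c j)) fun g => by
      rw [Finset.smul_sum]
      exact Fintype.sum_equiv (Equiv.mulLeft g) _ _ fun x => (mul_smul g x _).symm
    have h0 := Fintype.linearIndependent_iff.mp b.linearIndependent t (by
      simp only [Algebra.smul_def, ht, Finset.sum_mul]
      rw [Finset.sum_comm]
      refine Finset.sum_eq_zero fun g _ => ?_
      simp only [smul_mul', mul_assoc, ← Finset.mul_sum, h1, mul_zero]) i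
    rw [← ht i, h0, map_zero]
  let φ : G → (A →* A) := fun g => (MulSemiringAction.toRingHom G A g).toMonoidHom
  have hinj : Function.Injective φ := fun g g' e =>
    FaithfulSMul.eq_of_smul_eq_smul (α := A) fun a => DFunLike.congr_fun e a
  have hli := (linearIndependent_monoidHom A A).comp φ hinj
  have := Fintype.linearIndependent_iff.mp hli (fun g => g • c i) (funext fun z => by
    simp only [Finset.sum_apply, Pi.smul_apply, Function.comp_apply, smul_eq_mul, Pi.zero_apply]
    refine Eq.trans (Finset.sum_congr rfl fun g _ => ?_) (htr z)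
    show (g • c i) * (g • z) = g • (z * c i)
    rw [smul_mul', mul_comm]) 1
  exact hi (by simpa using this)

open scoped Classical in
/-- Purity for free extensions: trivial inertia in codimension at most one gives a global delta. -/
theorem delta_of_free [IsDomain R] [IsNoetherianRing R] [IsIntegrallyClosed R] [IsDomain A]
    [Module.Finite R A] [Module.Free R A] [SMulCommClass G R A] [FaithfulSMul G A]
    (hfix : ∀ a : A, (∀ g : G, g • a = a) → a ∈ Set.range (algebraMap R A))
    (h : ∀ Q : Ideal A, Q.IsPrime → (Q.comap (algebraMap R A)).height ≤ 1 → Q.inertia G = ⊥) :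
    Pi.single (1 : G) (1 : A) ∈ orbitSpan (H := G) (⊤ : Subalgebra R A) := by
  have : Algebra.IsIntegral R A := Algebra.IsIntegral.of_finite R A
  let b := Module.Free.chooseBasis R A
  let := Fintype.ofFinite (Module.Free.ChooseBasisIndex R A)
  let := Fintype.ofFinite G
  have hrepr : ∀ f ∈ orbitSpan (H := G) (⊤ : Subalgebra R A),
      ∃ c : Module.Free.ChooseBasisIndex R A → A, ∀ g, f g = ∑ i, c i * (g • b i) := by
    intro f hf
    induction hf using Submodule.span_induction with
    | mem f hf =>
      obtain ⟨y, rfl⟩ := hf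
      refine ⟨fun i => algebraMap R A (b.repr y i), fun g => ?_⟩
      show g • (y : A) = _
      conv_lhs => rw [← b.sum_repr (y : A), Finset.smul_sum]
      exact Finset.sum_congr rfl fun i _ => by
        rw [Algebra.smul_def, smul_mul', smul_algebraMap]
    | zero => exact ⟨0, fun g => by simp⟩
    | add x y _ _ hx hy =>
      obtain ⟨c, hc⟩ := hx; obtain ⟨d, hd⟩ := hy
      exact ⟨c + d, fun g => by simp [hc, hd, add_mul, Finset.sum_add_distrib]⟩
    | smul z x _ hx =>
      obtain ⟨c, hc⟩ := hx
      exact ⟨fun i => z * c i, fun g => by simp [hc, Finset.mul_sum, mul_assoc]⟩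
  obtain ⟨r₀, hr₀, hmem⟩ := exists_delta (G := G) (⊥ : Ideal R) fun Q hQ hQq =>
    h Q hQ (by rw [hQq]; simp)
  have hr0 : r₀ ≠ 0 := fun e => hr₀ (by simp [e])
  obtain ⟨c, hc⟩ := hrepr _ hmem
  have hdvd : ∀ i j, r₀ ∣ b.repr (c i) j := fun i j => dvd_of_height_le_one hr0 fun q hq hq1 => by
    obtain ⟨r, hr, hm⟩ := exists_delta (G := G) q fun Q hQ hQq => h Q hQ (hQq ▸ hq1)
    obtain ⟨e, he⟩ := hrepr _ hm
    have hz := eq_zero_of_sum_orbit hfix b (fun k => r • c k - r₀ • e k) fun g => by
      simp only [sub_mul, Finset.sum_sub_distrib, Algebra.smul_def, mul_assoc, ← Finset.mul_sum,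
        ← hc g, ← he g]
      by_cases hg : g = 1
      · subst hg; simp [mul_comm]
      · simp [Pi.single_eq_of_ne hg]
    refine ⟨r, hr, b.repr (e i) j, ?_⟩
    have := congrArg (fun a => b.repr a j) (congrFun hz i)
    simpa [sub_eq_zero] using this
  choose d hd using hdvd
  let a : Module.Free.ChooseBasisIndex R A → A := fun i => ∑ j, d i j • b j
  have hca : ∀ i, c i = algebraMap R A r₀ * a i := fun i => by
    rw [← Algebra.smul_def, Finset.smul_sum]
    conv_lhs => rw [← b.sum_repr (c i)]
    exact Finset.sum_congr rfl fun j _ => by rw [hd i j, mul_smul]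
  have hinj : algebraMap R A r₀ ≠ 0 :=
    fun e => hr0 (FaithfulSMul.algebraMap_injective R A (e.trans (map_zero _).symm))
  have he : Pi.single (1 : G) (1 : A) = ∑ i, a i • fun g : G => g • b i := by
    funext g
    refine mul_left_cancel₀ hinj ?_
    simp only [Finset.sum_apply, Pi.smul_apply, smul_eq_mul, Finset.mul_sum, ← mul_assoc, ← hca,
      ← hc g]
    by_cases hg : g = 1
    · subst hg; simp
    · simp [Pi.single_eq_of_ne hg]
  rw [he]
  exact sum_mem fun i _ => Submodule.smul_mem _ _
    (Submodule.subset_span ⟨⟨b i, Algebra.mem_top⟩, rfl⟩)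

/-- Delta functions give the trace reproduction formula. -/
theorem exists_dual [Fintype G] {r : R}
    (h : ∀ [DecidableEq G], Pi.single (1 : G) (algebraMap R A r) ∈ orbitSpan (H := G) (⊤ : Subalgebra R A)) :
    ∃ (l : ℕ) (x y : Fin l → A), ∀ a : A, r • a = ∑ k, (∑ g : G, g • (a * x k)) * y k := by
  classical
  obtain ⟨l, x, f, hsum⟩ := Submodule.mem_span_set'.mp h
  have hf := fun k => (f k).2
  choose y hy using hf
  refine ⟨l, x, fun k => (y k : A), fun a => ?_⟩
  have hval : ∀ g : G, ∑ k, x k * (g • (y k : A)) = if g = 1 then algebraMap R A r else 0 := fun g => by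
    have := congrFun hsum g
    simp only [Finset.sum_apply, Pi.smul_apply, smul_eq_mul] at this
    rw [Pi.single_apply] at this
    rw [← this]
    exact Finset.sum_congr rfl fun k _ => by rw [← hy k]
  simp only [Finset.sum_mul]
  rw [Finset.sum_comm]
  calc r • a = ∑ g : G, (g • a) * (g • ∑ k, x k * (g⁻¹ • (y k : A))) := by
        rw [Finset.sum_eq_single (1 : G) (fun g _ hg => by rw [hval, if_neg (by simpa using hg),
          smul_zero, mul_zero]) (fun h => absurd (Finset.mem_univ _) h)]
        rw [hval, if_pos inv_one, one_smul, one_smul, Algebra.smul_def, mul_comm]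
    _ = _ := Finset.sum_congr rfl fun g _ => by
        simp [Finset.smul_sum, Finset.mul_sum, smul_mul', mul_assoc]

end

end Groth.Agent.WQ7
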